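import Cfsg.Agent.Lib.J4Module.Model

/-!
The three orbits on the nonzero vectors: 693, 1386 and 2016 vectors.
-/

set_option autoImplicit false
set_option linter.style.haveILetI false

namespace Cfsg.Agent.J4Module

open Data

/-- The map of a generator. -/
def genMap (g : ℕ) : List ℕ := if g = 0 then xC else if g = 1 then yC else fC

/-- Spread along a spanning tree. -/
def grow : List (ℕ × ℕ) → ℕ → Option ℕ
  | [], s => some s
  | (g, q) :: rest, s => if s.testBit q then grow rest (s ||| (1 <<< app (genMap g) q)) else none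

theorem grow_spec {S : Set ℕ} (hS : ∀ g q, q ∈ S → app (genMap g) q ∈ S) :
    ∀ (L : List (ℕ × ℕ)) (s t : ℕ), grow L s = some t → (∀ q, s.testBit q = true → q ∈ S) →
      ∀ q, t.testBit q = true → q ∈ S
  | [], s, t, h, hs => by
    obtain rfl : s = t := Option.some.inj h
    exact hs
  | (g, r) :: rest, s, t, h, hs => by
    rw [grow] at h
    by_cases hr : s.testBit r = true
    · rw [if_pos hr] at h
      refine grow_spec hS rest _ t h fun q hq => ?_
      rw [Nat.testBit_or, Bool.or_eq_true] at hq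
      rcases hq with hq | hq
      · exact hs q hq
      · rw [Nat.one_shiftLeft, Nat.testBit_two_pow, decide_eq_true_eq] at hq
        exact hq ▸ hS g r (hs r hr)
    · rw [if_neg hr] at h
      exact absurd h (by simp)

/-- The three classes. -/
def mask (k : Fin 3) : ℕ := ![mask1, mask2, mask0] k

/-- Their representatives. -/
def rep (k : Fin 3) : ℕ := ![rep1, rep2, rep0] k

/-- Their sizes. -/
def orbitSize (k : Fin 3) : ℕ := ![693, 1386, 2016] k

/-- Their spanning trees. -/
def tree (k : Fin 3) : List (ℕ × ℕ) := ![tree1, tree2, tree0] k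

theorem grow_ok : ∀ k, grow (tree k) (1 <<< rep k) = some (mask k) := by decide +kernel

theorem rep_mem : ∀ k, (mask k).testBit (rep k) = true ∧ rep k < 4096 := by decide +kernel

theorem mask_invariant : ∀ n < 4096, ∀ k, (mask k).testBit n = true →
    (mask k).testBit (app xC n) = true ∧ (mask k).testBit (app yC n) = true ∧
      (mask k).testBit (app fC n) = true :=
  of_chunks 64 (by decide +kernel)

theorem mask_cover : ∀ n < 4096,
    (n = 0 → ∀ k, (mask k).testBit n = false) ∧ (n ≠ 0 → ∃ k, (mask k).testBit n = true ∧ ∀ j, (mask j).testBit n = true → j = k) :=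
  of_chunks 64 (by decide +kernel)

theorem mask_count : ∀ k, ((List.range 4096).filter fun n => (mask k).testBit n).length = orbitSize k := by
  decide +kernel

theorem card_filter_range (q : ℕ → Bool) (N : ℕ) :
    ((Finset.range N).filter fun n => q n = true).card = ((List.range N).filter q).length := by
  rw [Finset.card_def, Finset.filter_val, Finset.range_val, Multiset.range, Multiset.filter_coe,
    Multiset.coe_card]
  congr 1
  exact List.filter_congr (fun n _ => by simp)

universe u

variable {W : Type u} [AddCommGroup W] {p x y f : W →+ W} {b : List W}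

namespace IsModel

variable (M : IsModel p x y f b)
include M

/-- An orbit, in the group. -/
def orbit (_M : IsModel p x y f b) (k : Fin 3) : Set W :=
  {w | ∃ n < 4096, (mask k).testBit n = true ∧ phi b n = w}

theorem card_orbit (k : Fin 3) : (M.orbit k).ncard = orbitSize k := by
  classical
  have h : M.orbit k = phi b '' ↑((Finset.range 4096).filter fun n => (mask k).testBit n = true) := by
    ext w
    simp [orbit, and_assoc]
  rw [h, Set.InjOn.ncard_image, Set.ncard_coe_finset, card_filter_range, mask_count k]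
  · intro m hm n hn e
    simp only [Finset.coe_filter, Finset.mem_range] at hm hn
    exact M.inj m hm.1 n hn.1 e

theorem exists_unique_orbit {w : W} (hw : w ≠ 0) : ∃! k, w ∈ M.orbit k := by
  obtain ⟨n, hn, rfl⟩ := M.surj w
  obtain ⟨k, hk, hu⟩ := (mask_cover n hn).2 (fun e => hw (by rw [e, phi_zero]))
  refine ⟨k, ⟨n, hn, hk, rfl⟩, fun j hj => ?_⟩
  obtain ⟨m, hm, hmj, e⟩ := hj
  exact hu j (M.inj m hm n hn e ▸ hmj)

theorem orbit_closed (k : Fin 3) {w : W} (hw : w ∈ M.orbit k) :
    x w ∈ M.orbit k ∧ y w ∈ M.orbit k ∧ f w ∈ M.orbit k := by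
  obtain ⟨n, hn, hk, rfl⟩ := hw
  obtain ⟨h1, h2, h3⟩ := mask_invariant n hn k hk
  exact ⟨⟨_, col_lt n hn _ (by simp), h1, (M.hx n).symm⟩,
    ⟨_, col_lt n hn _ (by simp), h2, (M.hy n).symm⟩, ⟨_, col_lt n hn _ (by simp), h3, (M.hf n).symm⟩⟩

/-- A set closed under the generators meeting an orbit contains it. -/
theorem orbit_subset [Finite W] (hbij : Function.Bijective x ∧ Function.Bijective y ∧ Function.Bijective f)
    (k : Fin 3) {S : Set W} (hS : ∀ w ∈ S, x w ∈ S ∧ y w ∈ S ∧ f w ∈ S)
    {w : W} (hwS : w ∈ S) (hwk : w ∈ M.orbit k) : M.orbit k ⊆ S := by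
  have key : ∀ T : Set W, (∀ w ∈ T, x w ∈ T ∧ y w ∈ T ∧ f w ∈ T) → phi b (rep k) ∈ T →
      M.orbit k ⊆ T := by
    rintro T hT hr _ ⟨n, hn, hk, rfl⟩
    have := grow_spec (S := {q | phi b q ∈ T}) (fun g q hq => ?_) (tree k) _ _ (grow_ok k)
      (fun q hq => ?_) n hk
    · exact this
    · show phi b (app (genMap g) q) ∈ T
      rw [genMap]
      split_ifs
      · exact M.hx q ▸ (hT _ hq).1
      · exact M.hy q ▸ (hT _ hq).2.1
      · exact M.hf q ▸ (hT _ hq).2.2
    · rw [Nat.one_shiftLeft, Nat.testBit_two_pow, decide_eq_true_eq] at hq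
      exact hq ▸ hr
  refine key S hS (by_contra fun hr => ?_)
  have hcompl : ∀ g : W → W, Function.Bijective g → (∀ w ∈ S, g w ∈ S) → ∀ w ∈ Sᶜ, g w ∈ Sᶜ := by
    intro g hg hgS v hv hgv
    obtain ⟨⟨v', hv'⟩, e⟩ := (Finite.injective_iff_surjective.1
      (fun a c h => Subtype.ext (hg.1 (congrArg Subtype.val h)) :
        Function.Injective fun a : S => (⟨g a, hgS a a.2⟩ : S))) ⟨g v, hgv⟩
    exact hv (hg.1 (congrArg Subtype.val e) ▸ hv')
  exact key Sᶜ (fun v hv => ⟨hcompl x hbij.1 (fun a ha => (hS a ha).1) v hv,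
    hcompl y hbij.2.1 (fun a ha => (hS a ha).2.1) v hv,
    hcompl f hbij.2.2 (fun a ha => (hS a ha).2.2) v hv⟩) hr hwk hwS

end IsModel

end Cfsg.Agent.J4Module
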