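import Cfsg.Agent.Lib.J4Module.RankChecks
import Cfsg.Agent.Lib.J4Module.Orbits

/-!
In the Sylow 2-subgroup of the automorphism group of the module there is exactly one elementary subgroup
of order at least 16 fixing at least 16 vectors; it has order 16 and fixes 64 vectors.
-/

set_option autoImplicit false

namespace Cfsg.Agent.J4Module

open Data

theorem app_xor : ∀ (C : List ℕ) (m n : ℕ), app C (m ^^^ n) = app C m ^^^ app C n
  | [], _, _ => by simp [app]
  | c :: cs, m, n => by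
    have hd : (m ^^^ n) / 2 = (m / 2) ^^^ (n / 2) := by
      rw [← Nat.shiftRight_one, ← Nat.shiftRight_one, ← Nat.shiftRight_one, Nat.shiftRight_xor_distrib]
    have h0 : ((m ^^^ n).testBit 0) = (m.testBit 0 ^^ n.testBit 0) := Nat.testBit_xor ..
    simp only [Nat.testBit_zero] at h0
    show (if (m ^^^ n) % 2 = 1 then c else 0) ^^^ app cs ((m ^^^ n) / 2) =
      ((if m % 2 = 1 then c else 0) ^^^ app cs (m / 2)) ^^^ ((if n % 2 = 1 then c else 0) ^^^ app cs (n / 2))
    rw [hd, app_xor cs]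
    rcases Nat.mod_two_eq_zero_or_one (m ^^^ n) with h | h <;>
      rcases Nat.mod_two_eq_zero_or_one m with hm | hm <;>
        rcases Nat.mod_two_eq_zero_or_one n with hn | hn <;> simp [h, hm, hn] at h0 ⊢ <;> ac_nf <;>
          simp [Nat.xor_left_comm]

theorem app_compC (A : List ℕ) : ∀ (B : List ℕ) (n : ℕ), app (compC A B) n = app A (app B n)
  | [], _ => (app_zero A).symm
  | c :: cs, n => by
    show (if n % 2 = 1 then app A c else 0) ^^^ app (compC A cs) (n / 2) = _
    rw [app_compC A cs]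
    show _ = app A ((if n % 2 = 1 then c else 0) ^^^ app cs (n / 2))
    rw [app_xor]
    by_cases h : n % 2 = 1 <;> simp [h]

theorem testBit_fixAux : ∀ (C : List ℕ) (k idx acc n : ℕ), idx < 2 ^ k →
    ((fixAux C (2 ^ k) idx acc).testBit n = true ↔
      n % 2 ^ k = idx ∧ n / 2 ^ k < 2 ^ C.length ∧ app C (n / 2 ^ k) ^^^ acc = n)
  | [], k, idx, acc, n, hidx => by
    rw [fixAux]
    constructor
    · intro h
      by_cases e : idx = acc
      · rw [if_pos e, Nat.one_shiftLeft, Nat.testBit_two_pow, decide_eq_true_eq] at h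
        subst h
        simp [app, ← e, Nat.mod_eq_of_lt hidx, Nat.div_eq_of_lt hidx]
      · simp [e] at h
    · rintro ⟨h1, h2, h3⟩
      simp [app] at h2 h3
      subst h3
      have hn : acc < 2 ^ k := by
        by_contra hc
        have := Nat.div_pos (not_lt.1 hc) (Nat.two_pow_pos k)
        omega
      rw [Nat.mod_eq_of_lt hn] at h1
      simp [h1, Nat.one_shiftLeft, Nat.testBit_two_pow]
  | c :: cs, k, idx, acc, n, hidx => by
    have hk : 2 * 2 ^ k = 2 ^ (k + 1) := by rw [pow_succ']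
    have h1 : idx < 2 ^ (k + 1) := by omega
    have h2 : idx + 2 ^ k < 2 ^ (k + 1) := by omega
    rw [fixAux, Nat.testBit_or, Bool.or_eq_true, hk, testBit_fixAux cs (k + 1) _ _ n h1,
      testBit_fixAux cs (k + 1) _ _ n h2]
    have hmod : n % 2 ^ (k + 1) = n % 2 ^ k + 2 ^ k * (n / 2 ^ k % 2) := Nat.mod_pow_succ
    have hdiv : n / 2 ^ (k + 1) = n / 2 ^ k / 2 := by rw [Nat.div_div_eq_div_mul, pow_succ]
    have hlt : n % 2 ^ k < 2 ^ k := Nat.mod_lt _ (Nat.two_pow_pos k)
    rw [hmod, hdiv, List.length_cons, pow_succ' 2 cs.length]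
    show _ ↔ _ ∧ _ ∧ (((if n / 2 ^ k % 2 = 1 then c else 0) ^^^ app cs (n / 2 ^ k / 2)) ^^^ acc) = n
    rcases Nat.mod_two_eq_zero_or_one (n / 2 ^ k) with e | e
    · rw [e, mul_zero, add_zero, if_neg (by omega : ¬(0 = 1)), Nat.zero_xor]
      refine ⟨?_, fun ⟨a, b, d⟩ => Or.inl ⟨a, by omega, d⟩⟩
      rintro (⟨a, b, d⟩ | ⟨a, b, d⟩)
      · exact ⟨a, by omega, d⟩
      · omega
    · rw [e, mul_one, if_pos rfl]
      refine ⟨?_, fun ⟨a, b, d⟩ => Or.inr ⟨by omega, by omega, ?_⟩⟩
      · rintro (⟨a, b, d⟩ | ⟨a, b, d⟩)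
        · omega
        · exact ⟨by omega, by omega, Eq.trans (by ac_rfl) d⟩
      · exact Eq.trans (by ac_rfl) d

/-- The meaning of the bit set of fixed vectors. -/
theorem testBit_fixMask {C : List ℕ} (n : ℕ) :
    (fixMask C).testBit n = true ↔ n < 2 ^ C.length ∧ app C n = n := by
  rw [fixMask, show (1 : ℕ) = 2 ^ 0 from rfl, testBit_fixAux C 0 0 0 n (by norm_num)]
  simp [Nat.mod_one]

theorem clear_lowest : ∀ (i j m : ℕ), i < j → m.testBit i = true → m.testBit j = true →
    (m &&& (m - 1)).testBit j = true := by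
  intro i
  induction i with
  | zero =>
    intro j m hj hi hjm
    obtain ⟨j, rfl⟩ : ∃ j', j = j' + 1 := ⟨j - 1, by omega⟩
    simp only [Nat.testBit_zero, decide_eq_true_eq] at hi
    rw [Nat.testBit_and, hjm, Bool.true_and, Nat.testBit_succ, show (m - 1) / 2 = m / 2 by omega]
    rwa [Nat.testBit_succ] at hjm
  | succ i ih =>
    intro j m hj hi hjm
    obtain ⟨j, rfl⟩ : ∃ j', j = j' + 1 := ⟨j - 1, by omega⟩
    rw [Nat.testBit_and, hjm, Bool.true_and, Nat.testBit_succ]
    rw [Nat.testBit_succ] at hi hjm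
    rcases Nat.mod_two_eq_zero_or_one m with h | h
    · have := ih j (m / 2) (by omega) hi hjm
      rw [Nat.testBit_and, hjm, Bool.true_and] at this
      rwa [show (m - 1) / 2 = m / 2 - 1 by omega]
    · rwa [show (m - 1) / 2 = m / 2 by omega]

theorem card_le_of_clearLow : ∀ (k m : ℕ) (s : Finset ℕ), (∀ n ∈ s, m.testBit n = true) →
    clearLow k m = 0 → s.card ≤ k := by
  intro k
  induction k with
  | zero =>
    intro m s hs h
    rw [clearLow] at h
    subst h
    have he : s = ∅ := Finset.eq_empty_of_forall_notMem fun n hn => by simpa using hs n hn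
    simp [he]
  | succ k ih =>
    intro m s hs h
    rw [clearLow] at h
    rcases s.eq_empty_or_nonempty with rfl | hne
    · simp
    · have hi := s.min'_mem hne
      have := ih _ (s.erase (s.min' hne)) (fun n hn => by
        obtain ⟨h1, h2⟩ := Finset.mem_erase.1 hn
        exact clear_lowest _ n m (lt_of_le_of_ne (s.min'_le n h2) (Ne.symm h1)) (hs _ hi) (hs n h2)) h
      rw [Finset.card_erase_of_mem hi] at this
      omega

theorem testBit_allBits (N n : ℕ) : (allBits N).testBit n = decide (n < N) :=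
  Nat.testBit_two_pow_sub_one _ _

theorem mem_fixSpan (t : List ℕ) (n : ℕ) :
    (fixSpan t).testBit n = true ↔ n < 4096 ∧ ∀ g ∈ t, (fixMask (elemI g)).testBit n = true := by
  induction t with
  | nil =>
    rw [fixSpan, List.foldr_nil, testBit_allBits]
    simp
  | cons g t ih =>
    show (fixMask (elemI g) &&& fixSpan t).testBit n = true ↔ _
    rw [Nat.testBit_and, Bool.and_eq_true, ih]
    simp only [List.forall_mem_cons]
    tauto

theorem spanI_length : ∀ t : List ℕ, (spanI t).length = 2 ^ t.length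
  | [] => rfl
  | g :: t => by
    rw [spanI, List.length_append, List.length_map, spanI_length t, List.length_cons, pow_succ']
    omega

theorem elemI_length : ∀ i ≤ 71, (elemI i).length = 12 := by decide +kernel

theorem elemI_inj : ∀ i ≤ 71, ∀ j ≤ 71, elemI i = elemI j → i = j := by
  intro i hi j hj h
  have hlen : (invol ++ [oneC]).length = 72 := by rw [List.length_append, invol_length.1]; rfl
  have key : ∀ k ≤ 71, ∀ hk : k < (invol ++ [oneC]).length, (invol ++ [oneC])[k] = elemI k := by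
    intro k hk hk'
    rcases hk.lt_or_eq with hlt | rfl
    · rw [List.getElem_append_left (by rw [invol_length.1]; exact hlt), elemI, List.getD_eq_getElem]
    · rw [List.getElem_append_right (by rw [invol_length.1])]
      simp [elemI, invol_length.1, List.getD]
  exact (invol_nodup.getElem_inj_iff (hi := by omega) (hj := by omega)).1
    ((key i hi (by omega)).trans (h.trans (key j hj (by omega)).symm))

theorem levels_lt : (∀ t ∈ level0, ∀ g ∈ t, g < 71) ∧ (∀ t ∈ level1, ∀ g ∈ t, g < 71) ∧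
    (∀ t ∈ level2, ∀ g ∈ t, g < 71) ∧ (∀ t ∈ level3, ∀ g ∈ t, g < 71) ∧ (∀ t ∈ level4, ∀ g ∈ t, g < 71) := by
  decide +kernel

theorem levels_length : (∀ t ∈ level0, t.length = 0) ∧ (∀ t ∈ level1, t.length = 1) ∧
    (∀ t ∈ level2, t.length = 2) ∧ (∀ t ∈ level3, t.length = 3) ∧ (∀ t ∈ level4, t.length = 4) := by
  decide +kernel

/-- An elementary abelian set of elements of the Sylow subgroup. -/
structure ElemBase (B : Set (List ℕ)) : Prop where
  sub : ∀ g ∈ B, g ∈ sylow
  one : oneC ∈ B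
  mul : ∀ g ∈ B, ∀ h ∈ B, compC g h ∈ B
  sq : ∀ g ∈ B, compC g g = oneC
  comm : ∀ g ∈ B, ∀ h ∈ B, compC g h = compC h g

/-- An elementary abelian set of elements of the Sylow subgroup with many fixed vectors. -/
structure ElemSub (B : Set (List ℕ)) : Prop extends ElemBase B where
  fix : ∀ s : Finset ℕ, (∀ n < 4096, (∀ g ∈ B, app g n = n) → n ∈ s) → 16 ≤ s.card

namespace ElemBase

variable {B : Set (List ℕ)} (hB : ElemBase B)
include hB

theorem exists_index {g : List ℕ} (hg : g ∈ B) : ∃ i ≤ 71, elemI i = g := by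
  rcases invol_complete g (hB.sub g hg) (hB.sq g hg) with rfl | h
  · exact ⟨71, le_rfl, by simp [elemI, invol_length.1, List.getD]⟩
  · obtain ⟨i, hi, rfl⟩ := List.getElem_of_mem h
    exact ⟨i, by rw [invol_length.1] at hi; omega, List.getD_eq_getElem _ _ hi⟩

theorem entry_ok {i j : ℕ} (hi : i < 71) (hj : j < 71) (hiB : elemI i ∈ B) (hjB : elemI j ∈ B) :
    entry i j ≤ 71 ∧ elemI (entry i j) ∈ B ∧ entry i j ≠ 72 := by
  rcases (tab_spec i hi j hj).2 with ⟨-, hne⟩ | ⟨hle, he⟩
  · exact absurd (hB.comm _ hiB _ hjB) hne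
  · exact ⟨hle, he ▸ hB.mul _ hiB _ hjB, by omega⟩

theorem span_sub : ∀ {t : List ℕ}, (∀ g ∈ t, g ≤ 71 ∧ elemI g ∈ B) →
    ∀ i ∈ spanI t, i ≤ 71 ∧ elemI i ∈ B
  | [], _, i, hi => by
    simp only [spanI, List.mem_singleton] at hi
    subst hi
    exact ⟨le_rfl, by simpa [elemI, invol_length.1, List.getD] using hB.one⟩
  | g :: t, ht, i, hi => by
    have ht' : ∀ j ∈ t, j ≤ 71 ∧ elemI j ∈ B := fun j hj => ht j (List.mem_cons_of_mem _ hj)
    rw [spanI, List.mem_append, List.mem_map] at hi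
    rcases hi with hi | ⟨j, hj, rfl⟩
    · exact span_sub ht' i hi
    · obtain ⟨hg, hgB⟩ := ht g List.mem_cons_self
      obtain ⟨hj1, hjB⟩ := span_sub ht' j hj
      rw [mulI]
      split_ifs with h1 h2
      · exact ⟨hj1, hjB⟩
      · exact ⟨hg, hgB⟩
      · obtain ⟨h3, h4, -⟩ := hB.entry_ok (by omega) (by omega) hgB hjB
        exact ⟨h3, h4⟩

/-- The indices of the subgroup. -/
noncomputable def idx (_hB : ElemBase B) : Finset ℕ :=
  haveI := Classical.decPred fun i => elemI i ∈ B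
  (Finset.range 72).filter fun i => elemI i ∈ B

theorem mem_idx {i : ℕ} : i ∈ hB.idx ↔ i ≤ 71 ∧ elemI i ∈ B := by
  classical
  simp [idx]
  omega

theorem card_idx : hB.idx.card = B.ncard := by
  classical
  have h : B = elemI '' ↑hB.idx := by
    ext g
    constructor
    · intro hg
      obtain ⟨i, hi, rfl⟩ := hB.exists_index hg
      exact ⟨i, hB.mem_idx.2 ⟨hi, hg⟩, rfl⟩
    · rintro ⟨i, hi, rfl⟩
      exact (hB.mem_idx.1 hi).2
  conv_rhs => rw [h]
  rw [Set.InjOn.ncard_image, Set.ncard_coe_finset]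
  intro i hi j hj e
  exact elemI_inj i (hB.mem_idx.1 hi).1 j (hB.mem_idx.1 hj).1 e

theorem fix_mem {t : List ℕ} (ht : ∀ g ∈ t, g ≤ 71 ∧ elemI g ∈ B) (n : ℕ) (hn : n < 4096)
    (hfix : ∀ g ∈ B, app g n = n) : (fixSpan t).testBit n = true := by
  rw [mem_fixSpan]
  refine ⟨hn, fun g hg => ?_⟩
  rw [testBit_fixMask]
  refine ⟨?_, hfix _ (ht g hg).2⟩
  rw [elemI_length g (ht g hg).1]
  exact hn

theorem extend_all {L L' : List (List ℕ)} (h : stepAll L L' = true) (hL : ∀ t ∈ L, ∀ g ∈ t, g < 71) {t : List ℕ} (htL : t ∈ L)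
    (ht : ∀ g ∈ t, g ≤ 71 ∧ elemI g ∈ B) (hlt : (spanI t).toFinset.card < hB.idx.card) :
    ∃ t' ∈ L', ∀ g ∈ t', g ≤ 71 ∧ elemI g ∈ B := by
  classical
  obtain ⟨a, ha, hat⟩ := Finset.exists_mem_notMem_of_card_lt_card hlt
  obtain ⟨ha1, haB⟩ := hB.mem_idx.1 ha
  have hsub := hB.span_sub ht
  have hat' : a ∉ spanI t := fun h => hat (List.mem_toFinset.2 h)
  have h71 : (71 : ℕ) ∈ spanI t := by
    clear hat hat' hlt hsub ht htL h
    induction t with
    | nil => simp [spanI]
    | cons g t ih => rw [spanI, List.mem_append]; exact Or.inl ih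
  have ha71 : a < 71 := by
    rcases ha1.lt_or_eq with h' | h'
    · exact h'
    · exact absurd (h' ▸ h71) hat'
  simp only [stepAll, List.all_eq_true, List.mem_range, Bool.or_eq_true, List.any_eq_true,
    List.contains_iff_mem, beq_iff_eq] at h
  rcases h t htL a ha71 with (h1 | ⟨g, hg, he⟩) | ⟨t', ht', hse⟩
  · exact absurd h1 hat'
  · exact absurd he (hB.entry_ok ha71 (hL t htL g hg) haB (ht g hg).2).2.2
  · exact ⟨t', ht', fun g hg => hB.span_sub (List.forall_mem_cons.2 ⟨⟨ha1, haB⟩, ht⟩) g (hse g hg)⟩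

theorem card_le : B.ncard ≤ 32 := by
  classical
  rw [← hB.card_idx]
  by_contra hlt
  push_neg at hlt
  obtain ⟨e0, e1, e2, e3, e4, e5⟩ := all_length
  obtain ⟨n0, n1, n2, n3, n4, n5⟩ := all_lt
  have hc : ∀ t : List ℕ, (spanI t).toFinset.card ≤ 2 ^ t.length := fun t =>
    (List.toFinset_card_le _).trans_eq (spanI_length t)
  obtain ⟨t1, m1, h1⟩ := hB.extend_all all0 n0 (t := []) (levels_small.1 ▸ List.mem_singleton_self _) (by simp)
    (lt_of_le_of_lt (hc []) (by simp; omega))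
  obtain ⟨t2, m2, h2⟩ := hB.extend_all all1 n1 m1 h1 (lt_of_le_of_lt (hc t1) (by rw [e1 t1 m1]; omega))
  obtain ⟨t3, m3, h3⟩ := hB.extend_all all2 n2 m2 h2 (lt_of_le_of_lt (hc t2) (by rw [e2 t2 m2]; omega))
  obtain ⟨t4, m4, h4⟩ := hB.extend_all all3 n3 m3 h3 (lt_of_le_of_lt (hc t3) (by rw [e3 t3 m3]; omega))
  obtain ⟨t5, m5, h5⟩ := hB.extend_all all4 n4 m4 h4 (lt_of_le_of_lt (hc t4) (by rw [e4 t4 m4]; omega))
  obtain ⟨t6, m6, -⟩ := hB.extend_all all5 n5 m5 h5 (lt_of_le_of_lt (hc t5) (by rw [e5 t5 m5]; omega))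
  rw [show allLevel6 = [] from rfl] at m6
  simp at m6

end ElemBase

namespace ElemSub

variable {B : Set (List ℕ)} (hB : ElemSub B)
include hB

open ElemBase

theorem extend {L L' : List (List ℕ)} (h : stepOK L L' = true) (hL : ∀ t ∈ L, ∀ g ∈ t, g < 71) {t : List ℕ} (htL : t ∈ L)
    (ht : ∀ g ∈ t, g ≤ 71 ∧ elemI g ∈ B) (hlt : (spanI t).toFinset.card < hB.toElemBase.idx.card) :
    ∃ t' ∈ L', ∀ g ∈ t', g ≤ 71 ∧ elemI g ∈ B := by
  classical
  obtain ⟨a, ha, hat⟩ := Finset.exists_mem_notMem_of_card_lt_card hlt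
  obtain ⟨ha1, haB⟩ := hB.toElemBase.mem_idx.1 ha
  have hsub := hB.toElemBase.span_sub ht
  have hat' : a ∉ spanI t := fun h => hat (List.mem_toFinset.2 h)
  have h71 : (71 : ℕ) ∈ spanI t := by
    clear hat hat' hlt hsub ht htL h
    induction t with
    | nil => simp [spanI]
    | cons g t ih => rw [spanI, List.mem_append]; exact Or.inl ih
  have ha71 : a < 71 := by
    rcases ha1.lt_or_eq with h' | h'
    · exact h'
    · exact absurd (h' ▸ h71) hat'
  simp only [stepOK, List.all_eq_true, List.mem_range, Bool.or_eq_true, List.any_eq_true,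
    List.contains_iff_mem, beq_iff_eq] at h
  rcases h t htL a ha71 with ((h1 | ⟨g, hg, he⟩) | h1) | ⟨t', ht', hse⟩
  · exact absurd h1 hat'
  · exact absurd he (hB.toElemBase.entry_ok ha71 (hL t htL g hg) haB (ht g hg).2).2.2
  · have := card_le_of_clearLow 15 _ ((Finset.range 4096).filter fun n => ∀ g ∈ B, app g n = n)
      (fun n hn => by
        obtain ⟨hn1, hn2⟩ := Finset.mem_filter.1 hn
        rw [Finset.mem_range] at hn1
        rw [Nat.testBit_and, Bool.and_eq_true]
        refine ⟨testBit_fixMask n |>.2 ⟨?_, hn2 _ haB⟩, hB.toElemBase.fix_mem ht n hn1 hn2⟩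
        rw [elemI_length a ha1]
        exact hn1) h1
    have h16 := hB.fix ((Finset.range 4096).filter fun n => ∀ g ∈ B, app g n = n)
      fun n hn hf => Finset.mem_filter.2 ⟨Finset.mem_range.2 hn, hf⟩
    omega
  · exact ⟨t', ht', fun g hg => hB.toElemBase.span_sub (List.forall_mem_cons.2 ⟨⟨ha1, haB⟩, ht⟩) g (hse g hg)⟩

/-- Uniqueness of the big elementary subgroup. -/
theorem eq_big (h16 : 16 ≤ B.ncard) :
    B = elemI '' {i | i ∈ 71 :: bigIdx} ∧
      ∀ n < 4096, (∀ g ∈ B, app g n = n) ↔ bigFix.testBit n = true := by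
  classical
  obtain ⟨l0, l5, l4, lf⟩ := levels_small
  obtain ⟨e0, e1, e2, e3, e4⟩ := levels_length
  rw [← hB.toElemBase.card_idx] at h16
  have hc : ∀ t : List ℕ, (spanI t).toFinset.card ≤ 2 ^ t.length := fun t =>
    (List.toFinset_card_le _).trans_eq (spanI_length t)
  obtain ⟨t1, m1, h1⟩ := hB.extend step0 levels_lt.1 (t := []) (l0 ▸ List.mem_singleton_self _) (by simp)
    (lt_of_le_of_lt (hc []) (by simp; omega))
  obtain ⟨t2, m2, h2⟩ := hB.extend step1 levels_lt.2.1 m1 h1 (lt_of_le_of_lt (hc t1) (by rw [e1 t1 m1]; omega))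
  obtain ⟨t3, m3, h3⟩ := hB.extend step2 levels_lt.2.2.1 m2 h2 (lt_of_le_of_lt (hc t2) (by rw [e2 t2 m2]; omega))
  obtain ⟨t4, m4, h4⟩ := hB.extend step3 levels_lt.2.2.2.1 m3 h3 (lt_of_le_of_lt (hc t3) (by rw [e3 t3 m3]; omega))
  have hsub : (spanI t4).toFinset ⊆ hB.toElemBase.idx := fun i hi =>
    hB.mem_idx.2 (hB.toElemBase.span_sub h4 i (List.mem_toFinset.1 hi))
  have heq : hB.toElemBase.idx = (spanI t4).toFinset := by
    refine (Finset.eq_of_subset_of_card_le hsub ?_).symm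
    by_contra hlt
    obtain ⟨t5, m5, -⟩ := hB.extend step4 levels_lt.2.2.2.2 m4 h4 (not_le.1 hlt)
    rw [l5] at m5
    simp at m5
  have hset : B = elemI '' {i | i ∈ 71 :: bigIdx} := by
    ext g
    constructor
    · intro hg
      obtain ⟨i, hi, rfl⟩ := hB.toElemBase.exists_index hg
      have := hB.mem_idx.2 ⟨hi, hg⟩
      rw [heq, List.mem_toFinset, l4 t4 m4] at this
      exact ⟨i, this, rfl⟩
    · rintro ⟨i, hi, rfl⟩
      refine (hB.mem_idx.1 ?_).2
      rw [heq, List.mem_toFinset, l4 t4 m4]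
      exact hi
  refine ⟨hset, fun n hn => ?_⟩
  have hlen : ∀ i ∈ 71 :: bigIdx, (elemI i).length = 12 := by decide +kernel
  have hiff : bigFix.testBit n = true ↔ ∀ i ∈ bigIdx, app (elemI i) n = n := by
    rw [← lf, mem_fixSpan]
    constructor
    · exact fun h i hi => ((testBit_fixMask n).1 (h.2 i hi)).2
    · exact fun h => ⟨hn, fun i hi => (testBit_fixMask n).2
        ⟨by rw [hlen i (List.mem_cons_of_mem _ hi)]; exact hn, h i hi⟩⟩
  rw [hiff]
  constructor
  · intro h i hi
    exact h _ (hset ▸ ⟨i, List.mem_cons_of_mem _ hi, rfl⟩)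
  · intro h g hg
    rw [hset] at hg
    obtain ⟨i, hi, rfl⟩ := hg
    rcases List.mem_cons.1 hi with rfl | hi
    · rw [show elemI 71 = oneC by simp [elemI, invol_length.1, List.getD]]
      exact unit_spec n hn
    · exact h i hi

end ElemSub

end Cfsg.Agent.J4Module
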