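import Mathlib.Algebra.Group.Hom.Defs
import Mathlib.Data.Nat.Bitwise

/-!
Linear maps over two elements given by lists of columns, and coordinates in an elementary abelian group.
-/

set_option autoImplicit false

namespace Cfsg.Agent.J4Module

/-- The map with the given columns, on bit vectors. -/
def app : List ℕ → ℕ → ℕ
  | [], _ => 0
  | c :: cs, n => (if n % 2 = 1 then c else 0) ^^^ app cs (n / 2)

@[simp] theorem app_zero (C : List ℕ) : app C 0 = 0 := by
  induction C with
  | nil => rfl
  | cons c cs ih => simp [app, ih]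

universe u

variable {W : Type u} [AddCommGroup W]

/-- The vector with the given coordinates. -/
def phi : List W → ℕ → W
  | [], _ => 0
  | b :: bs, n => (if n % 2 = 1 then b else 0) + phi bs (n / 2)

@[simp] theorem phi_zero (b : List W) : phi b 0 = 0 := by
  induction b with
  | nil => rfl
  | cons c cs ih => simp [phi, ih]

theorem phi_xor (h2 : ∀ w : W, w + w = 0) : ∀ (b : List W) (m n : ℕ),
    phi b (m ^^^ n) = phi b m + phi b n
  | [], _, _ => (add_zero 0).symm
  | c :: cs, m, n => by
    have hd : (m ^^^ n) / 2 = (m / 2) ^^^ (n / 2) := by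
      rw [← Nat.shiftRight_one, ← Nat.shiftRight_one, ← Nat.shiftRight_one, Nat.shiftRight_xor_distrib]
    have hm : (m ^^^ n) % 2 = (m + n) % 2 := by
      have h0 : ((m ^^^ n).testBit 0) = (m.testBit 0 ^^ n.testBit 0) := Nat.testBit_xor ..
      simp only [Nat.testBit_zero] at h0
      rcases Nat.mod_two_eq_zero_or_one (m ^^^ n) with h | h <;>
        rcases Nat.mod_two_eq_zero_or_one m with hm | hm <;>
          rcases Nat.mod_two_eq_zero_or_one n with hn | hn <;> simp [h, hm, hn] at h0 ⊢ <;>
            simp [Nat.add_mod, hm, hn]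
    show (if (m ^^^ n) % 2 = 1 then c else 0) + phi cs ((m ^^^ n) / 2) =
      (if m % 2 = 1 then c else 0) + phi cs (m / 2) + ((if n % 2 = 1 then c else 0) + phi cs (n / 2))
    rw [hd, phi_xor h2 cs, add_add_add_comm]
    congr 1
    rcases Nat.mod_two_eq_zero_or_one m with h | h <;> rcases Nat.mod_two_eq_zero_or_one n with h' | h' <;>
      simp [hm, Nat.add_mod, h, h', h2]

theorem map_phi (g : W →+ W) : ∀ (b : List W) (n : ℕ), g (phi b n) = phi (b.map g) n
  | [], _ => map_zero g
  | c :: cs, n => by
    show g ((if n % 2 = 1 then c else 0) + phi cs (n / 2)) = _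
    rw [map_add, map_phi g cs]
    show _ = (if n % 2 = 1 then g c else 0) + phi (cs.map g) (n / 2)
    congr 1
    by_cases h : n % 2 = 1 <;> simp [h]

theorem phi_app (h2 : ∀ w : W, w + w = 0) (b : List W) : ∀ (C : List ℕ) (n : ℕ),
    phi b (app C n) = phi (C.map (phi b)) n
  | [], _ => phi_zero b
  | c :: cs, n => by
    show phi b ((if n % 2 = 1 then c else 0) ^^^ app cs (n / 2)) = _
    rw [phi_xor h2, phi_app h2 b cs]
    show _ = (if n % 2 = 1 then phi b c else 0) + phi (cs.map (phi b)) (n / 2)
    congr 1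
    by_cases h : n % 2 = 1 <;> simp [h]

/-- A map known on a basis is known on coordinates. -/
theorem apply_phi (h2 : ∀ w : W, w + w = 0) (g : W →+ W) {b : List W} {C : List ℕ}
    (h : b.map g = C.map (phi b)) (n : ℕ) : g (phi b n) = phi b (app C n) := by
  rw [map_phi, h, phi_app h2]

omit [AddCommGroup W] in
theorem iterate_phi (g : W → W) (c : ℕ → ℕ) (φ : ℕ → W) (h : ∀ n, g (φ n) = φ (c n)) :
    ∀ (k n : ℕ), g^[k] (φ n) = φ (c^[k] n)
  | 0, _ => rfl
  | k + 1, n => by
    rw [Function.iterate_succ_apply, h, iterate_phi g c φ h k, Function.iterate_succ_apply]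

end Cfsg.Agent.J4Module
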