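import Cfsg.Agent.Lib.J4Module.Bits
import Cfsg.Agent.Lib.J4Module.Data
import Mathlib.Tactic.NormNum

/-!
Decidable facts about the tables.
-/

set_option autoImplicit false

namespace Cfsg.Agent.J4Module

open Data

/-- The companion matrix of the eleventh cyclotomic polynomial. -/
def x10 : List ℕ := [2, 4, 8, 16, 32, 64, 128, 256, 512, 1023]

/-- Multiplication by a vector of the cyclic module. -/
def mulCols (n : ℕ) : List ℕ := (List.range 10).map fun i => (app x10)^[i] n

/-- The semilinear map with the given image of the generator. -/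
def frobCols (n : ℕ) : List ℕ := (List.range 10).map fun i => (app x10)^[3 * i % 11] n

/-- The adapted basis. -/
def gbL : List ℕ :=
  [1, app pC 1, 4, app pC 4, aV, app pC aV, app yC aV, app pC (app yC aV), bV, app pC bV, app yC bV,
    app pC (app yC bV)]

/-- Images on the fixed part. -/
def imFix (i j : ℕ) : List ℕ := [i, app pC i, j, app pC j]

/-- Images on the eigenblocks. -/
def imBlk (k l : ℕ) : List ℕ :=
  [k, app pC k, app yC (app yC k), app pC (app yC (app yC k)), l, app pC l, app yC (app yC l),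
    app pC (app yC (app yC l))]

/-- A candidate on the fixed part. -/
def candFix (i j n : ℕ) : ℕ := app (imFix i j) (app invC n)

/-- A candidate on the eigenblocks. -/
def candBlk (k l n : ℕ) : ℕ := app (imBlk k l) (app invC n / 16)

/-- A candidate. -/
def cand (i j k l n : ℕ) : ℕ := candFix i j n ^^^ candBlk k l n

theorem of_chunks {P : ℕ → Prop} (k : ℕ) (h : ∀ a < k, ∀ b < 64, P (64 * a + b)) :
    ∀ n < 64 * k, P n := fun n hn => by
  have := h (n / 64) (Nat.div_lt_of_lt_mul hn) (n % 64) (Nat.mod_lt _ (by norm_num))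
  rwa [Nat.div_add_mod] at this

theorem h0_spec : ∀ n < 1024, app (mulCols n) n ^^^ n ^^^ 1 = 0 → n = h0 ∨ n = h0 ^^^ 1 :=
  of_chunks 16 (by decide +kernel)

theorem norm_spec : ∀ n < 1024, (app (frobCols n))^[5] 1 = 1 → ∃ i < 10,
    ((2 ^ i) ^^^ app (frobCols n) (2 ^ i) ^^^ (app (frobCols n))^[2] (2 ^ i) ^^^
      (app (frobCols n))^[3] (2 ^ i) ^^^ (app (frobCols n))^[4] (2 ^ i)) ≠ 0 :=
  of_chunks 16 (by decide +kernel)

theorem app10_lt : ∀ n < 1024, app x10 n < 1024 :=
  of_chunks 16 (by decide +kernel)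

theorem cols_eq : xC = [1, 2] ++ x10.map (4 * ·) ∧ pC = [2, 3] ++ (mulCols h0).map (4 * ·) ∧
    yC = [1, 2] ++ (frobCols 1).map (4 * ·) := by decide +kernel

theorem gb_spec : ∀ n < 4096, app gbL (app invC n) = n :=
  of_chunks 64 (by decide +kernel)

theorem fix_spec : ∀ n < 4096, app yC n = n → n ∈ fixL :=
  of_chunks 64 (by decide +kernel)

theorem fix_low : ∀ n ∈ fixL, app invC n < 16 ∧ n < 4096 := by decide +kernel

theorem a_spec : ∀ n < 4096,
    app yC (app yC (app yC (app yC n))) ^^^ app pC (app yC (app yC n)) ^^^ n = 0 → n ∈ bL :=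
  of_chunks 64 (by decide +kernel)

theorem b_spec : ∀ n < 4096,
    app yC (app yC (app yC (app yC n))) ^^^ app p2C (app yC (app yC n)) ^^^ n = 0 → n ∈ aL :=
  of_chunks 64 (by decide +kernel)

theorem a_low : ∀ n ∈ aL ++ bL, app invC n % 16 = 0 ∧ n < 4096 := by decide +kernel

theorem a_eq : app yC (app yC aV) ^^^ app pC (app yC aV) ^^^ aV = 0 ∧
    app yC (app yC bV) ^^^ app p2C (app yC bV) ^^^ bV = 0 ∧ aV < 4096 ∧ bV < 4096 := by decide +kernel

theorem a_mem : aV ∈ aL ∧ bV ∈ bL := by decide +kernel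

theorem blk_map : ∀ k ∈ bL, ∀ l ∈ aL, ∀ n ∈ aL ++ bL, candBlk k l n ∈ aL ++ bL := by
  decide +kernel

theorem scalar_fix : ∀ n < 4096, app dC (app d2C n) = n ∧ app d2C (app dC n) = n :=
  of_chunks 64 (by decide +kernel)

theorem p_cols : pC.map (app pC) = p2C ∧ dC.map (app xC) = xC.map (app dC) ∧
    dC.map (app yC) = yC.map (app dC) ∧ dC.map (app pC) = pC.map (app dC) ∧
    d2C.map (app xC) = xC.map (app d2C) ∧ d2C.map (app yC) = yC.map (app d2C) ∧
    d2C.map (app pC) = pC.map (app d2C) ∧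
    dC.map (app d2C) = (List.range 12).map (2 ^ ·) ∧ d2C.map (app dC) = (List.range 12).map (2 ^ ·) := by
  decide +kernel

theorem p2_cols : p2C.map (app p2C) = pC := by decide +kernel

theorem unit_spec : ∀ n < 4096, app ((List.range 12).map (2 ^ ·)) n = n :=
  of_chunks 64 (by decide +kernel)

theorem col_lt : ∀ n < 4096, ∀ C ∈ [pC, p2C, xC, yC, fC, dC, d2C], app C n < 4096 :=
  of_chunks 64 (by decide +kernel)

/-- Candidates passing every test. -/
def allCand : List (ℕ × ℕ × ℕ × ℕ) :=
  let p1 := fixL.flatMap fun i => (fixL.filter fun j =>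
    (candFix i j)^[4] 1 == 1 && (candFix i j)^[4] 4 == 4).map fun j => (i, j)
  let p2 := bL.flatMap fun k => (aL.filter fun l =>
    (candBlk k l)^[4] aV == aV && (candBlk k l)^[4] bV == bV).map fun l => (k, l)
  p1.flatMap fun q => (p2.filter fun r =>
    let e := (fun n => app xC (cand q.1 q.2 r.1 r.2 n))^[11] 4
    e == 4 || e == app pC 4 || e == app p2C 4).map fun r => (q.1, q.2, r.1, r.2)

theorem allCand_mem : ∀ c ∈ allCand, c ∈ survivors := by decide +kernel

/-- The columns of a candidate. -/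
def candCols (c : ℕ × ℕ × ℕ × ℕ) : List ℕ :=
  (List.range 12).map fun s => cand c.1 c.2.1 c.2.2.1 c.2.2.2 (2 ^ s)

theorem survivors_spec : ∀ c ∈ survivors,
    (candCols c = fC) ∨ (dC.map (app (candCols c)) = fC.map (app dC)) ∨
      (d2C.map (app (candCols c)) = fC.map (app d2C)) := by decide +kernel

end Cfsg.Agent.J4Module
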