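import Cfsg.Agent.Lib.J4Module.Rep
import Cfsg.Agent.Lib.J4Module.Checks

/-!
The cyclic module of order 1024 and the choice of the coordinates.
-/

set_option autoImplicit false
set_option linter.style.haveILetI false

namespace Cfsg.Agent.J4Module

open Data

universe u

variable {W : Type u} [AddCommGroup W]

/-- The orbit basis of a vector. -/
def b10 (x : W →+ W) (v : W) : List W := (List.range 10).map fun i => x^[i] v

theorem two_pow_spec : ∀ i < 10, (app x10)^[i] 1 = 2 ^ i := by decide +kernel

namespace Rep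

variable {p x y f : W →+ W} (R : Rep p x y f)
include R

theorem x_b10 {v : W} (hv : tr x v = 0) :
    (b10 x v).map x = x10.map (phi (b10 x v)) := by
  have h : x^[10] v = ∑ i ∈ Finset.range 10, x^[i] v := by
    have h0 : (∑ i ∈ Finset.range 10, x^[i] v) + x^[10] v = 0 := by
      rw [← Finset.sum_range_succ (fun i => x^[i] v)]; exact hv
    calc x^[10] v = (∑ i ∈ Finset.range 10, x^[i] v) + (∑ i ∈ Finset.range 10, x^[i] v) + x^[10] v := by
          rw [R.two, zero_add]
      _ = _ := by rw [add_assoc, h0, add_zero]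
  simp only [Finset.sum_range_succ, Finset.sum_range_zero, zero_add, Function.iterate_succ_apply',
    Function.iterate_zero_apply] at h
  simp [b10, x10, List.range_succ, phi, Function.iterate_succ_apply']
  rw [h]
  abel

theorem x_phi10 {v : W} (hv : tr x v = 0) (n : ℕ) :
    x (phi (b10 x v) n) = phi (b10 x v) (app x10 n) :=
  apply_phi R.two x (R.x_b10 hv) n

omit R in
theorem phi10_one (v : W) : phi (b10 x v) 1 = v := by
  simp [b10, List.range_succ, phi]

theorem tr_iterate (i : ℕ) (w : W) : tr x (x^[i] w) = tr x w := by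
  induction i with
  | zero => rfl
  | succ i ih => rw [Function.iterate_succ_apply', R.tr_x, ih]

theorem tr_phi10 {v : W} (hv : tr x v = 0) (n : ℕ) : tr x (phi (b10 x v) n) = 0 := by
  rw [map_phi]
  have h : (b10 x v).map (tr x) = List.replicate 10 0 := by
    simp [b10, List.range_succ, List.replicate_succ, R.tr_x, hv, Function.iterate_succ_apply']
  rw [h]
  simp [List.replicate_succ, phi]

/-- The orbit of a nonzero vector of trace zero gives coordinates on the kernel of the trace. -/
theorem cyclic {v : W} (hv : tr x v = 0) (hv0 : v ≠ 0) :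
    (∀ n < 1024, phi (b10 x v) n = 0 → n = 0) ∧
      ∀ w, tr x w = 0 → ∃ n < 1024, phi (b10 x v) n = w := by
  classical
  haveI := finite_of_card (n := 4096) R.card
  haveI : Fact (Nat.Prime 11) := ⟨by norm_num⟩
  set φ := phi (b10 x v) with hφ
  have hx := R.x_phi10 hv
  let S : AddSubgroup W :=
    { carrier := {w | ∃ n < 1024, φ n = w}
      zero_mem' := ⟨0, by norm_num, phi_zero _⟩
      add_mem' := by
        rintro _ _ ⟨m, hm, rfl⟩ ⟨n, hn, rfl⟩
        exact ⟨m ^^^ n, Nat.xor_lt_two_pow (n := 10) hm hn, phi_xor R.two _ _ _⟩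
      neg_mem' := by
        rintro _ ⟨n, hn, rfl⟩
        exact ⟨n, hn, eq_neg_of_add_eq_zero_left (R.two _)⟩ }
  let g : S → S := fun w => ⟨x w.1, by
    obtain ⟨n, hn, e⟩ := w.2
    exact ⟨app x10 n, app10_lt n hn, by rw [← e, hφ, hx]⟩⟩
  have hg : ∀ k (w : S), (g^[k] w : W) = x^[k] w := by
    intro k
    induction k with
    | zero => intro w; rfl
    | succ k ih =>
      intro w
      rw [Function.iterate_succ_apply', Function.iterate_succ_apply', ← ih]
  have h1 := periodic_modEq g (fun w => Subtype.ext (by rw [hg, R.x11]))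
  haveI : Unique {w : S // g w = w} :=
    { default := ⟨0, Subtype.ext (map_zero x)⟩
      uniq := by
        rintro ⟨⟨w, n, hn, rfl⟩, hw⟩
        refine Subtype.ext (Subtype.ext ?_)
        have hw' : x (φ n) = φ n := congrArg Subtype.val hw
        show φ n = 0
        rw [← R.tr_of_fix hw', hφ, R.tr_phi10 hv] }
  rw [Nat.card_unique (α := {w : S // g w = w})] at h1
  let e : Fin 1024 → S := fun n => ⟨φ n, n, n.2, rfl⟩
  have he : Function.Surjective e := fun ⟨w, n, hn, e⟩ => ⟨⟨n, hn⟩, Subtype.ext e⟩
  have hcard : Nat.card S = 1024 := by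
    have hle : Nat.card S ≤ 1024 := by simpa using Nat.card_le_card_of_surjective e he
    have hgt : 1 < Nat.card S := by
      refine Finite.one_lt_card_iff_nontrivial.2 ⟨⟨0, ⟨v, 1, by norm_num, phi10_one v⟩, fun h => hv0 ?_⟩⟩
      exact (congrArg Subtype.val h).symm
    have hdvd : Nat.card S ∣ 2 ^ 12 := by
      have := AddSubgroup.card_addSubgroup_dvd_card S
      rwa [R.card] at this
    obtain ⟨d, hd, ed⟩ := (Nat.dvd_prime_pow Nat.prime_two).1 hdvd
    rw [ed] at h1 hle hgt ⊢
    revert h1 hle hgt
    interval_cases d <;> simp [Nat.ModEq]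
  have hinj : Function.Injective e :=
    ((Nat.bijective_iff_surjective_and_card e).2 ⟨he, by rw [hcard, Nat.card_fin]⟩).1
  refine ⟨fun n hn h => ?_, fun w hw => ?_⟩
  · have := @hinj ⟨n, hn⟩ 0 (Subtype.ext (h.trans (phi_zero _).symm))
    exact congrArg Fin.val this
  · -- the kernel of the trace has order 1024
    have hK : Nat.card (tr x).ker = 1024 := by
      have himg : (tr x).range = fixX x := by
        refine le_antisymm ?_ fun a ha => ⟨a, R.tr_of_fix ha⟩
        rintro _ ⟨a, rfl⟩
        exact R.x_tr a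
      have := AddSubgroup.card_eq_card_quotient_mul_card_addSubgroup (tr x).ker
      rw [R.card, Nat.card_congr (QuotientAddGroup.quotientKerEquivRange (tr x)).toEquiv, himg,
        R.card_fixX] at this
      omega
    have hle : S ≤ (tr x).ker := by
      rintro _ ⟨n, _, rfl⟩
      exact R.tr_phi10 hv n
    have heq : S = (tr x).ker := AddSubgroup.eq_of_le_of_card_ge hle (by rw [hK, hcard])
    have hwS : w ∈ S := by rw [heq]; exact hw
    exact hwS

theorem p_phi10 {v : W} (n : ℕ) (hv : tr x v = 0) (hp : p v = phi (b10 x v) n) (m : ℕ) :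
    p (phi (b10 x v) m) = phi (b10 x v) (app (mulCols n) m) := by
  refine apply_phi R.two p ?_ m
  simp only [b10, mulCols, List.map_map]
  refine List.map_congr_left fun i _ => ?_
  show p (x^[i] v) = phi (b10 x v) ((app x10)^[i] n)
  rw [← iterate_phi x (app x10) (phi (b10 x v)) (R.x_phi10 hv), ← hp]
  exact (Function.Commute.iterate_right (fun a => R.px a) i) v

theorem y_phi10 {v : W} (n : ℕ) (hv : tr x v = 0) (hy : y v = phi (b10 x v) n) (m : ℕ) :
    y (phi (b10 x v) m) = phi (b10 x v) (app (frobCols n) m) := by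
  refine apply_phi R.two y ?_ m
  simp only [b10, frobCols, List.map_map]
  refine List.map_congr_left fun i _ => ?_
  show y (x^[i] v) = phi (b10 x v) ((app x10)^[3 * i % 11] n)
  rw [← iterate_phi x (app x10) (phi (b10 x v)) (R.x_phi10 hv), ← hy]
  have hit : ∀ i (a : W), y (x^[i] a) = x^[3 * i] (y a) := by
    intro i
    induction i with
    | zero => intro a; rfl
    | succ i ih =>
      intro a
      rw [Function.iterate_succ_apply', R.yx, ih, ← Function.iterate_add_apply]
      ring_nf
  rw [hit]
  conv_lhs => rw [← Nat.mod_add_div (3 * i) 11, Function.iterate_add_apply, Function.iterate_mul,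
    Function.iterate_fixed (R.x11 (y v))]

theorem exists_v : ∃ v : W, v ≠ 0 ∧ tr x v = 0 ∧ y v = v := by
  haveI := finite_of_card (n := 4096) R.card
  obtain ⟨w, hw⟩ := R.xne
  set v0 := x w + w with hv0
  have hv : tr x v0 = 0 := by rw [hv0, map_add, R.tr_x, R.two]
  have hne : v0 ≠ 0 := fun e => hw (by
    rw [eq_neg_of_add_eq_zero_left e]
    exact (eq_neg_of_add_eq_zero_left (R.two w)).symm)
  obtain ⟨hinj, hsurj⟩ := R.cyclic hv hne
  obtain ⟨n, hn, he⟩ := hsurj (y v0) (by rw [R.tr_y, hv, map_zero])
  have hyp := R.y_phi10 n hv he.symm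
  have hlt : ∀ (k : ℕ) (m : ℕ), m < 1024 → (app (frobCols n))^[k] m < 1024 := by
    have hcol : ∀ c ∈ frobCols n, c < 1024 := by
      intro c hc
      simp only [frobCols, List.mem_map] at hc
      obtain ⟨i, -, rfl⟩ := hc
      generalize 3 * i % 11 = k
      induction k with
      | zero => exact hn
      | succ k ih => rw [Function.iterate_succ_apply']; exact app10_lt _ ih
    have happ : ∀ (C : List ℕ), (∀ c ∈ C, c < 1024) → ∀ m, app C m < 1024 := by
      intro C
      induction C with
      | nil => intro _ m; exact (by norm_num : (0 : ℕ) < 1024)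
      | cons c cs ih =>
        intro hC m
        refine Nat.xor_lt_two_pow (n := 10) ?_ (ih (fun d hd => hC d (List.mem_cons_of_mem _ hd)) _)
        by_cases h : m % 2 = 1 <;> simp [h, hC c List.mem_cons_self]
    intro k m hm
    cases k with
    | zero => exact hm
    | succ k => rw [Function.iterate_succ_apply']; exact happ _ hcol _
  have hit := iterate_phi y (app (frobCols n)) (phi (b10 x v0)) hyp
  have h5 : (app (frobCols n))^[5] 1 = 1 := by
    have h : phi (b10 x v0) ((app (frobCols n))^[5] 1 ^^^ 1) = 0 := by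
      rw [phi_xor R.two, ← hit, phi10_one, R.y5, R.two]
    exact Nat.xor_eq_zero_iff.1 (hinj _ (Nat.xor_lt_two_pow (n := 10) (hlt 5 1 (by norm_num)) (by norm_num)) h)
  obtain ⟨i, hi, hne'⟩ := norm_spec n hn h5
  set z := phi (b10 x v0) (2 ^ i) with hz
  have hb : 2 ^ i < 1024 := Nat.pow_lt_pow_right (by norm_num) hi
  refine ⟨z + y z + y^[2] z + y^[3] z + y^[4] z, fun h => hne' (hinj _ ?_ ?_), ?_, ?_⟩
  · refine Nat.xor_lt_two_pow (n := 10) (Nat.xor_lt_two_pow (n := 10) (Nat.xor_lt_two_pow (n := 10)
      (Nat.xor_lt_two_pow (n := 10) hb ?_) (hlt 2 _ hb)) (hlt 3 _ hb)) (hlt 4 _ hb)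
    simpa using hlt 1 _ hb
  · rw [phi_xor R.two, phi_xor R.two, phi_xor R.two, phi_xor R.two, ← hit, ← hit, ← hit, ← hyp]
    exact h
  · have : ∀ k, tr x (y^[k] z) = 0 := by
      intro k
      induction k with
      | zero => exact R.tr_phi10 hv _
      | succ k ih => rw [Function.iterate_succ_apply', R.tr_y, ih, map_zero]
    have h1 : tr x (y z) = 0 := this 1
    have h0 : tr x z = 0 := this 0
    simp only [map_add, h0, h1, this, add_zero]
  · have h := R.y5 z
    simp only [map_add, Function.iterate_succ_apply', Function.iterate_zero_apply] at h ⊢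
    rw [h]; abel

theorem swap : Rep (p.comp p) x y f where
  card := R.card
  two := R.two
  scalar w := by
    show p (p (p (p w))) + p (p w) + w = 0
    rw [R.p3, add_comm (p w) (p (p w))]; exact R.scalar w
  px w := by show p (p (x w)) = x (p (p w)); rw [R.px, R.px]
  py w := by show p (p (y w)) = y (p (p w)); rw [R.py, R.py]
  pf w := by show p (p (f w)) = f (p (p w)); rw [R.pf, R.pf]
  x11 := R.x11
  xne := R.xne
  y5 := R.y5
  yx := R.yx
  f4 := R.f4
  fy := R.fy
  word w := by
    show _ ∨ _ = p (p w) ∨ _ = p (p (p (p w)))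
    rw [R.p3]
    exact (R.word w).imp id Or.symm

end Rep

end Cfsg.Agent.J4Module
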