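import Cfsg.Agent.Lib.Golay.Mathieu
import Cfsg.Agent.Lib.Golay.Aut

/-!
Three generators of the Mathieu group on 22 points with the relations used for its module over four
elements.
-/

set_option autoImplicit false
set_option linter.style.haveILetI false

namespace Cfsg.Agent.J4Module

open Cfsg Cfsg.Agent.Golay Cfsg.Agent.Golay.Cert Cfsg.Agent.PermCert

/-- Codes of the generators. -/
def genElt : Fin 3 → Elt :=
  ![(971393505990428687859146124579820096, 981874619980932326178614823743955232),
    (983063401360178586603532053144274976, 962774945461074800729415166826448928),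
    (982987475929287027771376387624109120, 969270257273082843792772143420376128)]

theorem genElt_valid : ∀ i, validElt 5 24 (genElt i) = true ∧ inStabB m22Inv (genElt i) = true := by
  decide +kernel

/-- The code of a word. -/
def wordElt : List (Fin 3) → Elt
  | [] => one 5 24
  | i :: w => mul 5 24 (genElt i) (wordElt w)

theorem rep_word : ∀ w : List (Fin 3),
    PermCert.Rep 5 (wordElt w) (w.map fun i => toPerm 5 24 (genElt i)).prod
  | [] => rep_one (by norm_num)
  | i :: w => by
    rw [List.map_cons, List.prod_cons]
    exact rep_mul (rep_toPerm (genElt_valid i).1) (rep_word w)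

theorem word_eq {v w : List (Fin 3)} (h : (wordElt v).1 = (wordElt w).1) :
    (v.map fun i => permOf (genElt i)).prod = (w.map fun i => permOf (genElt i)).prod := by
  have e := congrArg (Golay.phi) (rep_eq_code (rep_word v) (rep_word w) h)
  rw [map_list_prod, map_list_prod, List.map_map, List.map_map] at e
  exact e

/-- The generator of index `i` in the Mathieu group. -/
def gen (i : Fin 3) : Spor.M22 :=
  ⟨permOf (genElt i), by
    rw [sporM22_eq, ← stabIn_m22]
    exact permOf_mem_stabIn (genElt_valid i).1 (genElt_valid i).2⟩

theorem gen_word {v w : List (Fin 3)} (h : (wordElt v).1 = (wordElt w).1) :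
    (v.map gen).prod = (w.map gen).prod := by
  apply Subtype.ext
  rw [← Subgroup.subtype_apply, ← Subgroup.subtype_apply, map_list_prod, map_list_prod, List.map_map,
    List.map_map]
  exact word_eq h

theorem gen_pow11 : gen 0 ^ 11 = 1 := by
  have := gen_word (v := List.replicate 11 0) (w := []) (by decide +kernel)
  rwa [List.map_replicate, List.prod_replicate, List.map_nil, List.prod_nil] at this

theorem gen_pow5 : gen 1 ^ 5 = 1 := by
  have := gen_word (v := List.replicate 5 1) (w := []) (by decide +kernel)
  rwa [List.map_replicate, List.prod_replicate, List.map_nil, List.prod_nil] at this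

theorem gen_pow4 : gen 2 ^ 4 = 1 := by
  have := gen_word (v := List.replicate 4 2) (w := []) (by decide +kernel)
  rwa [List.map_replicate, List.prod_replicate, List.map_nil, List.prod_nil] at this

theorem gen_yx : gen 1 * gen 0 = gen 0 ^ 3 * gen 1 := by
  simpa [pow_succ, mul_assoc] using gen_word (v := [1, 0]) (w := [0, 0, 0, 1]) (by decide +kernel)

theorem gen_fy : gen 2 * gen 1 = gen 1 ^ 2 * gen 2 := by
  simpa [pow_succ, mul_assoc] using gen_word (v := [2, 1]) (w := [1, 1, 2]) (by decide +kernel)

theorem gen_word11 : (gen 0 * gen 2) ^ 11 = 1 := by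
  have := gen_word (v := (List.replicate 11 [(0 : Fin 3), 2]).flatten) (w := []) (by decide +kernel)
  rw [List.map_flatten, List.map_replicate, List.prod_flatten, List.map_replicate, List.prod_replicate] at this
  simpa using this

theorem gen_ne_one : gen 0 ≠ 1 := by
  intro e
  have h := congrArg (fun g : Spor.M22 => ((g : Equiv.Perm GolayPt) (some 1))) e
  have h2 : idx (permOf (genElt 0) (some 1)) = get 5 (genElt 0).1 (idx (some (1 : ZMod 23))) :=
    idx_permOf (genElt_valid 0).1 _
  rw [show permOf (genElt 0) (some 1) = some 1 from h] at h2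
  revert h2
  decide +kernel

/-- The three elements generate. -/
theorem gen_closure : Subgroup.closure (Set.range gen) = ⊤ := by
  have hcl : genPerm m22Gens ≤ (Subgroup.closure (Set.range gen)).map Spor.M22.subtype := by
    rw [genPerm, genGroup, MonoidHom.map_closure, Subgroup.closure_le]
    rintro _ ⟨σ, hσ, rfl⟩
    obtain ⟨e, he, rfl⟩ := List.mem_map.1 hσ
    obtain ⟨w, hw⟩ : ∃ w : List (Fin 3), e.1 = (wordElt w).1 := by
      have key : ∀ e ∈ m22Gens, e.1 = (wordElt [2, 2, 1, 0, 1, 2, 2, 2, 0, 2, 2, 1]).1 ∨
          e.1 = (wordElt [1, 0, 2, 1, 2, 2, 0, 2, 2]).1 := by decide +kernel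
      rcases key e he with h | h <;> exact ⟨_, h⟩
    have hv : validElt 5 24 e = true := by
      have key : ∀ e ∈ m22Gens, validElt 5 24 e = true := by decide +kernel
      exact key e he
    refine ⟨(w.map gen).prod, list_prod_mem fun g hg => ?_, ?_⟩
    · obtain ⟨i, -, rfl⟩ := List.mem_map.1 hg
      exact Subgroup.subset_closure ⟨i, rfl⟩
    · show _ = Golay.phi (toPerm 5 24 e)
      rw [rep_eq_code (rep_toPerm hv) (rep_word w) hw, map_list_prod, map_list_prod, List.map_map,
        List.map_map]
      rfl
  rw [(stabCert_spec m22_ok).1, stabIn_m22, ← sporM22_eq] at hcl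
  refine eq_top_iff.2 fun g _ => ?_
  obtain ⟨g', hg', e⟩ := hcl g.2
  exact Subtype.ext e ▸ hg'

end Cfsg.Agent.J4Module
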