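import Cfsg.Agent.Lib.J4Module.Orbits

/-!
In the orbit of 693 vectors the lines of the scalar of order three are determined by the addition: a linear map
preserving the orbit commutes with the scalar or inverts it.
-/

set_option autoImplicit false
set_option maxRecDepth 100000

namespace Cfsg.Agent.J4Module

open Data

namespace Lines

/-- The orbit of 693 vectors. -/
def T (n : ℕ) : Bool := mask1.testBit n

/-- Its members. -/
def pts : List ℕ := (List.range 4096).filter T

theorem mem_pts {n : ℕ} : n ∈ pts ↔ n < 4096 ∧ T n = true := by simp [pts]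

/-- The common neighbours of two members. -/
def common (v w : ℕ) : ℕ := (pts.filter fun u => T (u ^^^ v) && T (u ^^^ w)).length

theorem at_rep : ∀ w ∈ pts, T (w ^^^ rep1) = true → common rep1 w = 121 → w = app pC rep1 ∨ w = app p2C rep1 := by
  decide +kernel

theorem at_rep_line : common rep1 (app pC rep1) = 121 ∧ common rep1 (app p2C rep1) = 121 := by
  decide +kernel

theorem scalar_pts : ∀ n < 4096, T n = true →
    T (app pC n) = true ∧ T (app p2C n) = true ∧ app pC n ^^^ n = app p2C n ∧ app pC n ≠ app p2C n :=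
  of_chunks 64 (by decide +kernel)

theorem scalar_ne : ∀ n < 4096, n ≠ 0 → app pC n ≠ app p2C n :=
  of_chunks 64 (by decide +kernel)

theorem gen_scalar : ∀ n < 4096, ∀ g ∈ [xC, yC, fC],
    app g (app pC n) = app pC (app g n) ∧ app g (app p2C n) = app p2C (app g n) ∧
      (app g n = 0 → n = 0) :=
  of_chunks 64 (by decide +kernel)

theorem diameter : ∀ v ∈ pts, v = rep1 ∨ T (v ^^^ rep1) = true ∨
    ∃ u ∈ pts, T (u ^^^ rep1) = true ∧ T (v ^^^ u) = true := by decide +kernel

theorem two_sums : ∀ n < 4096, ∃ u ∈ pts, T (n ^^^ u) = true :=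
  of_chunks 64 (by decide +kernel)

/-- A linear bijection of the vectors preserving the orbit. -/
structure Good (L : ℕ → ℕ) : Prop where
  lt : ∀ n < 4096, L n < 4096
  add : ∀ m < 4096, ∀ n < 4096, L (m ^^^ n) = L m ^^^ L n
  inj : ∀ m < 4096, ∀ n < 4096, L m = L n → m = n
  mem : ∀ n < 4096, T n = true → T (L n) = true

variable {L : ℕ → ℕ}

theorem xor_lt {m n : ℕ} (hm : m < 4096) (hn : n < 4096) : m ^^^ n < 4096 := Nat.xor_lt_two_pow (n := 12) hm hn

theorem Good.toPts (h : Good L) {n : ℕ} (hn : n ∈ pts) : L n ∈ pts :=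
  mem_pts.2 ⟨h.lt n (mem_pts.1 hn).1, h.mem n (mem_pts.1 hn).1 (mem_pts.1 hn).2⟩

theorem Good.surj_pts (h : Good L) {m : ℕ} (hm : m ∈ pts) : ∃ n ∈ pts, L n = m := by
  obtain ⟨n, hn, e⟩ := Finset.surj_on_of_inj_on_of_card_le (s := pts.toFinset) (t := pts.toFinset)
    (fun n _ => L n) (fun n hn => List.mem_toFinset.2 (h.toPts (List.mem_toFinset.1 hn)))
    (fun m n hm hn e => h.inj m (mem_pts.1 (List.mem_toFinset.1 hm)).1 n
      (mem_pts.1 (List.mem_toFinset.1 hn)).1 e) le_rfl m (List.mem_toFinset.2 hm)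
  exact ⟨n, List.mem_toFinset.1 hn, e.symm⟩

theorem Good.adj (h : Good L) {m n : ℕ} (hm : m < 4096) (hn : n < 4096) :
    T (L m ^^^ L n) = true ↔ T (m ^^^ n) = true := by
  rw [← h.add m hm n hn]
  refine ⟨fun e => ?_, h.mem _ (xor_lt hm hn)⟩
  obtain ⟨k, hk, ek⟩ := h.surj_pts (mem_pts.2 ⟨h.lt _ (xor_lt hm hn), e⟩)
  rw [← h.inj k (mem_pts.1 hk).1 _ (xor_lt hm hn) ek]
  exact (mem_pts.1 hk).2

theorem common_eq (v w : ℕ) :
    common v w = (pts.toFinset.filter fun u => T (u ^^^ v) = true ∧ T (u ^^^ w) = true).card := by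
  have hd : (pts.filter fun u => T (u ^^^ v) && T (u ^^^ w)).Nodup := (List.nodup_range.filter _).filter _
  rw [common, ← List.toFinset_card_of_nodup hd, List.toFinset_filter]
  congr 1
  ext u
  simp

theorem Good.common (h : Good L) {v w : ℕ} (hv : v < 4096) (hw : w < 4096) :
    common (L v) (L w) = common v w := by
  rw [common_eq, common_eq]
  symm
  refine Finset.card_bij (fun u _ => L u) (fun u hu => ?_) (fun a ha b hb e => ?_) fun u hu => ?_
  · simp only [Finset.mem_filter, List.mem_toFinset] at hu ⊢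
    have := (mem_pts.1 hu.1).1
    exact ⟨h.toPts hu.1, (h.adj this hv).2 hu.2.1, (h.adj this hw).2 hu.2.2⟩
  · simp only [Finset.mem_filter, List.mem_toFinset] at ha hb
    exact h.inj a (mem_pts.1 ha.1).1 b (mem_pts.1 hb.1).1 e
  · simp only [Finset.mem_filter, List.mem_toFinset] at hu
    obtain ⟨n, hn, rfl⟩ := h.surj_pts hu.1
    have := (mem_pts.1 hn).1
    refine ⟨n, ?_, rfl⟩
    simp only [Finset.mem_filter, List.mem_toFinset]
    exact ⟨hn, (h.adj this hv).1 hu.2.1, (h.adj this hw).1 hu.2.2⟩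

theorem genMap_mem (g : ℕ) : genMap g ∈ [xC, yC, fC] := by
  rw [genMap]; split_ifs <;> simp

theorem good_gen (g : ℕ) : Good (app (genMap g)) := by
  have hlt : ∀ n < 4096, app (genMap g) n < 4096 := fun n hn => col_lt n hn _ (by
    rw [genMap]; split_ifs <;> simp)
  refine ⟨hlt, fun m _ n _ => app_xor' _ m n, fun m hm n hn e => ?_, fun n hn hT => ?_⟩
  · have h0 : app (genMap g) (m ^^^ n) = 0 := by rw [app_xor', e, Nat.xor_self]
    exact Nat.xor_eq_zero_iff.1 ((gen_scalar _ (xor_lt hm hn) _ (genMap_mem g)).2.2 h0)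
  · obtain ⟨h1, h2, h3⟩ := mask_invariant n hn 0 hT
    rw [genMap]; split_ifs <;> assumption
where
  app_xor' : ∀ (C : List ℕ) (m n : ℕ), app C (m ^^^ n) = app C m ^^^ app C n := by
    intro C
    induction C with
    | nil => simp [app]
    | cons c cs ih =>
      intro m n
      have hd : (m ^^^ n) / 2 = (m / 2) ^^^ (n / 2) := by
        rw [← Nat.shiftRight_one, ← Nat.shiftRight_one, ← Nat.shiftRight_one, Nat.shiftRight_xor_distrib]
      have h0 : ((m ^^^ n).testBit 0) = (m.testBit 0 ^^ n.testBit 0) := Nat.testBit_xor ..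
      simp only [Nat.testBit_zero] at h0
      show (if (m ^^^ n) % 2 = 1 then c else 0) ^^^ app cs ((m ^^^ n) / 2) =
        ((if m % 2 = 1 then c else 0) ^^^ app cs (m / 2)) ^^^ ((if n % 2 = 1 then c else 0) ^^^ app cs (n / 2))
      rw [hd, ih]
      rcases Nat.mod_two_eq_zero_or_one (m ^^^ n) with h | h <;>
        rcases Nat.mod_two_eq_zero_or_one m with hm | hm <;>
          rcases Nat.mod_two_eq_zero_or_one n with hn | hn <;> simp [h, hm, hn] at h0 ⊢ <;> ac_nf <;>
            simp [Nat.xor_left_comm]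

/-- At every member, the neighbours with 121 common neighbours are those on its line. -/
theorem at_all {v : ℕ} (hv : v < 4096) (hT : T v = true) :
    (∀ w ∈ pts, T (w ^^^ v) = true → common v w = 121 → w = app pC v ∨ w = app p2C v) ∧
      common v (app pC v) = 121 ∧ common v (app p2C v) = 121 := by
  let S : Set ℕ := {v | v ∈ pts ∧
    (∀ w ∈ pts, T (w ^^^ v) = true → common v w = 121 → w = app pC v ∨ w = app p2C v) ∧
      common v (app pC v) = 121 ∧ common v (app p2C v) = 121}
  have hS : ∀ g q, q ∈ S → app (genMap g) q ∈ S := by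
    rintro g q ⟨hq, h1, h2, h3⟩
    have G := good_gen g
    have hq' := (mem_pts.1 hq).1
    obtain ⟨c1, c2, -⟩ := gen_scalar q hq' _ (genMap_mem g)
    refine ⟨G.toPts hq, fun w hw hadj hc => ?_, ?_, ?_⟩
    · obtain ⟨w, hw', rfl⟩ := G.surj_pts hw
      have hw'' := (mem_pts.1 hw').1
      rw [G.common hq' hw''] at hc
      rcases h1 w hw' ((G.adj hw'' hq').1 hadj) hc with rfl | rfl
      · exact Or.inl c1
      · exact Or.inr c2
    · rw [← c1, G.common hq' (col_lt q hq' _ (by simp)), h2]
    · rw [← c2, G.common hq' (col_lt q hq' _ (by simp)), h3]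
  have hr : rep1 ∈ S := by
    refine ⟨mem_pts.2 ⟨(rep_mem 0).2, (rep_mem 0).1⟩, at_rep, at_rep_line.1, at_rep_line.2⟩
  have := grow_spec hS (tree 0) _ _ (grow_ok 0) (fun q hq => ?_) v hT
  · exact this.2
  · rw [Nat.one_shiftLeft, Nat.testBit_two_pow, decide_eq_true_eq] at hq
    exact hq ▸ hr

theorem Good.line (h : Good L) {v : ℕ} (hv : v < 4096) (hT : T v = true) :
    L (app pC v) = app pC (L v) ∨ L (app pC v) = app p2C (L v) := by
  obtain ⟨h1, -, h3, -⟩ := scalar_pts v hv hT
  have hp := col_lt v hv pC (by simp)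
  refine (at_all (h.lt v hv) (h.mem v hv hT)).1 _ (h.toPts (mem_pts.2 ⟨hp, h1⟩)) ?_ ?_
  · rw [h.adj hp hv, h3]
    exact (scalar_pts v hv hT).2.1
  · rw [h.common hv hp]
    exact (at_all hv hT).2.1

theorem Good.agree (h : Good L) {u v : ℕ} (hu : u ∈ pts) (hv : v ∈ pts) (ha : T (u ^^^ v) = true)
    (eu : L (app pC u) = app pC (L u)) : L (app pC v) = app pC (L v) := by
  have hu' := mem_pts.1 hu
  have hv' := mem_pts.1 hv
  have hs := xor_lt hu'.1 hv'.1
  refine (h.line hv'.1 hv'.2).resolve_right fun ev => ?_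
  have hz : ∀ n < 4096, T n = true → n ≠ 0 := fun n _ hn e => by
    subst e
    exact absurd hn (by decide +kernel)
  have key := h.line hs ha
  rw [good_gen.app_xor' pC u v, h.add _ (col_lt u hu'.1 _ (by simp)) _ (col_lt v hv'.1 _ (by simp)), eu, ev,
    h.add u hu'.1 v hv'.1] at key
  rcases key with e | e
  · rw [good_gen.app_xor', Nat.xor_right_inj] at e
    exact scalar_ne _ (h.lt v hv'.1) (hz _ (h.lt v hv'.1) (h.mem v hv'.1 hv'.2)) e.symm
  · rw [good_gen.app_xor', Nat.xor_left_inj] at e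
    exact scalar_ne _ (h.lt u hu'.1) (hz _ (h.lt u hu'.1) (h.mem u hu'.1 hu'.2)) e

theorem Good.agree' (h : Good L) {u v : ℕ} (hu : u ∈ pts) (hv : v ∈ pts) (ha : T (u ^^^ v) = true)
    (eu : L (app pC u) = app p2C (L u)) : L (app pC v) = app p2C (L v) := by
  refine (h.line (mem_pts.1 hv).1 (mem_pts.1 hv).2).resolve_left fun ev => ?_
  have := h.agree hv hu (by rwa [Nat.xor_comm]) ev
  have hu' := mem_pts.1 hu
  refine (scalar_pts _ (h.lt u hu'.1) (h.mem u hu'.1 hu'.2)).2.2.2 ?_
  rw [← this, eu]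

/-- A linear bijection preserving the orbit commutes with the scalar or inverts it. -/
theorem Good.scalar (h : Good L) :
    (∀ n < 4096, L (app pC n) = app pC (L n)) ∨ (∀ n < 4096, L (app pC n) = app p2C (L n)) := by
  have hr : rep1 ∈ pts := mem_pts.2 ⟨(rep_mem 0).2, (rep_mem 0).1⟩
  have spread : ∀ C : List ℕ, C ∈ [pC, p2C] →
      (∀ u v, u ∈ pts → v ∈ pts → T (u ^^^ v) = true → L (app pC u) = app C (L u) →
        L (app pC v) = app C (L v)) →
      L (app pC rep1) = app C (L rep1) → ∀ n < 4096, L (app pC n) = app C (L n) := by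
    intro C _ step h0
    have all : ∀ v ∈ pts, L (app pC v) = app C (L v) := by
      intro v hv
      rcases diameter v hv with rfl | ha | ⟨u, hu, ha, hb⟩
      · exact h0
      · exact step rep1 v hr hv (by rwa [Nat.xor_comm]) h0
      · exact step u v hu hv (by rwa [Nat.xor_comm]) (step rep1 u hr hu (by rwa [Nat.xor_comm]) h0)
    intro n hn
    obtain ⟨u, hu, ht⟩ := two_sums n hn
    have hu' := mem_pts.1 hu
    have hw := xor_lt hn hu'.1
    have e1 := all _ (mem_pts.2 ⟨hw, ht⟩)
    have e2 := all u hu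
    rw [good_gen.app_xor', h.add _ (col_lt n hn _ (by simp)) _ (col_lt u hu'.1 _ (by simp)),
      h.add n hn u hu'.1, good_gen.app_xor', e2, Nat.xor_left_inj] at e1
    exact e1
  rcases h.line (rep_mem 0).2 (rep_mem 0).1 with e | e
  · exact Or.inl (spread pC (by simp) (fun u v hu hv ha eu => h.agree hu hv ha eu) e)
  · exact Or.inr (spread p2C (by simp) (fun u v hu hv ha eu => h.agree' hu hv ha eu) e)

end Lines

universe u

variable {W : Type u} [AddCommGroup W] {p x y f : W →+ W} {b : List W}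

/-- A linear bijection preserving the orbit of 693 vectors commutes with the scalar or inverts it. -/
theorem IsModel.scalar_of_orbit (M : IsModel p x y f b) (h2 : ∀ w : W, w + w = 0) (l : W →+ W)
    (hinj : Function.Injective l) (hl : ∀ w ∈ M.orbit 0, l w ∈ M.orbit 0) :
    (∀ w, l (p w) = p (l w)) ∨ (∀ w, l (p w) = p (p (l w))) := by
  classical
  choose c hc hcp using fun n => M.surj (l (phi b n))
  have G : Lines.Good c := by
    refine ⟨fun n _ => hc n, fun m hm n hn => M.inj _ (hc _) _ (Lines.xor_lt (hc m) (hc n)) ?_,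
      fun m hm n hn e => M.inj m hm n hn (hinj ?_), fun n hn hT => ?_⟩
    · rw [hcp, phi_xor h2, phi_xor h2, map_add, hcp, hcp]
    · rw [← hcp, ← hcp, e]
    · obtain ⟨m, hm, hmT, e⟩ := hl _ ⟨n, hn, hT, rfl⟩
      rw [← hcp n] at e
      exact M.inj m hm _ (hc n) e ▸ hmT
  have hsq : ∀ n, app pC (app pC n) = app p2C n := fun n => by
    rw [← app_map pC pC n, p_cols.1]
  have hsq2 : ∀ n, app p2C (app p2C n) = app pC n := fun n => by
    rw [← app_map p2C p2C n, p2_cols]
  have hcube : ∀ n < 4096, app pC (app p2C n) = n := of_chunks 64 (by decide +kernel)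
  have hcube2 : ∀ n < 4096, app p2C (app pC n) = n := of_chunks 64 (by decide +kernel)
  have tr : ∀ {C D : List ℕ}, C ∈ [pC, p2C] → (∀ n, p (phi b n) = phi b (app C n)) →
      (∀ n < 4096, c (app C n) = app D (c n)) → ∀ n < 4096, l (p (phi b n)) = phi b (app D (c n)) := by
    intro C D hC hp hcD n hn
    rw [hp, ← hcp, hcD n hn]
  rcases M.hp with hp | hp <;> rcases G.scalar with hs | hs
  · left
    intro w
    obtain ⟨n, hn, rfl⟩ := M.surj w
    rw [tr (C := pC) (by simp) hp hs n hn, ← hcp n, hp]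
  · right
    intro w
    obtain ⟨n, hn, rfl⟩ := M.surj w
    rw [tr (C := pC) (by simp) hp hs n hn, ← hcp n, hp, hp, hsq]
  · left
    intro w
    obtain ⟨n, hn, rfl⟩ := M.surj w
    have h' : ∀ m < 4096, c (app p2C m) = app p2C (c m) := fun m hm => by
      rw [← hsq m, hs _ (col_lt m hm _ (by simp)), hs m hm, hsq]
    rw [tr (C := p2C) (by simp) hp h' n hn, ← hcp n, hp]
  · right
    intro w
    obtain ⟨n, hn, rfl⟩ := M.surj w
    have h' : ∀ m < 4096, c (app p2C m) = app pC (c m) := fun m hm => by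
      rw [← hsq m, hs _ (col_lt m hm _ (by simp)), hs m hm, hsq2]
    rw [tr (C := p2C) (by simp) hp h' n hn, ← hcp n, hp, hp, hsq2]
where
  app_map : ∀ (A B : List ℕ) (n : ℕ), app (B.map (app A)) n = app A (app B n) := by
    intro A B
    induction B with
    | nil => intro n; simp [app]
    | cons c cs ih =>
      intro n
      show (if n % 2 = 1 then app A c else 0) ^^^ app (cs.map (app A)) (n / 2) = _
      rw [ih, show app (c :: cs) n = (if n % 2 = 1 then c else 0) ^^^ app cs (n / 2) from rfl,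
        Lines.good_gen.app_xor' A]
      by_cases h : n % 2 = 1 <;> simp [h]

end Cfsg.Agent.J4Module
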