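import Cfsg.Agent.Lib.J4Module.Cyclic

/-!
Uniqueness of the module of dimension six over four elements of the triple cover of the Mathieu group
on 22 points, from three generators.
-/

set_option autoImplicit false
set_option linter.style.haveILetI false

namespace Cfsg.Agent.J4Module

open Data

universe u

variable {W : Type u} [AddCommGroup W]

theorem app_lt {k : ℕ} : ∀ {C : List ℕ}, (∀ c ∈ C, c < 2 ^ k) → ∀ m, app C m < 2 ^ k
  | [], _, _ => Nat.two_pow_pos k
  | c :: cs, hC, m => by
    refine Nat.xor_lt_two_pow ?_ (app_lt (fun d hd => hC d (List.mem_cons_of_mem _ hd)) _)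
    by_cases h : m % 2 = 1 <;> simp [h, hC c List.mem_cons_self]

theorem app_append : ∀ (A B : List ℕ) (m : ℕ), app (A ++ B) m = app A m ^^^ app B (m / 2 ^ A.length)
  | [], B, m => by simp [app]
  | c :: cs, B, m => by
    show (if m % 2 = 1 then c else 0) ^^^ app (cs ++ B) (m / 2) = _
    rw [app_append cs B]
    show _ = ((if m % 2 = 1 then c else 0) ^^^ app cs (m / 2)) ^^^ _
    rw [Nat.xor_assoc, List.length_cons, pow_succ', Nat.div_div_eq_div_mul]

/-- Coordinates in which the three generators and the scalar act by the tables. -/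
structure IsModel (p x y f : W →+ W) (b : List W) : Prop where
  inj : ∀ m < 4096, ∀ n < 4096, phi b m = phi b n → m = n
  surj : ∀ w, ∃ n < 4096, phi b n = w
  hx : ∀ n, x (phi b n) = phi b (app xC n)
  hy : ∀ n, y (phi b n) = phi b (app yC n)
  hf : ∀ n, f (phi b n) = phi b (app fC n)
  hp : (∀ n, p (phi b n) = phi b (app pC n)) ∨ (∀ n, p (phi b n) = phi b (app p2C n))

theorem phi12_four (a c : W) (b : List W) (m : ℕ) : phi (a :: c :: b) (4 * m) = phi b m := by
  have h1 : 4 * m % 2 = 0 := by omega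
  have h2 : 4 * m / 2 % 2 = 0 := by omega
  have h3 : 4 * m / 2 / 2 = m := by omega
  simp [phi, h1, h2, h3]

theorem comp_cols (h2 : ∀ w : W, w + w = 0) {g h : W →+ W} {b : List W} {C C' : List ℕ}
    (hg : ∀ n, g (phi b n) = phi b (app C n)) (hh : ∀ n, h (phi b n) = phi b (app C' n)) (n : ℕ) :
    g (h (phi b n)) = phi b (app (C'.map (app C)) n) := by
  rw [hh, phi_app h2, map_phi, phi_app h2, List.map_map, List.map_map]
  congr 1
  exact List.map_congr_left fun m _ => hg m

namespace Rep

variable {p x y f : W →+ W} (R : Rep p x y f)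
include R

theorem core {v : W} (hv0 : v ≠ 0) (hv : tr x v = 0) (hy : y v = v)
    (hp : p v = phi (b10 x v) h0) : ∃ b, IsModel p x y f b := by
  obtain ⟨e, he, hxe⟩ := R.exists_fix
  obtain ⟨hinj10, hsurj10⟩ := R.cyclic hv hv0
  obtain ⟨-, -, hppe⟩ := R.p_ne he
  have hxpe : x (p e) = p e := by rw [← R.px, hxe]
  have hye : y e = e := R.y_fix hxe
  set b := e :: p e :: b10 x v with hb
  set φ := phi b with hφ
  have hfour : ∀ m, φ (4 * m) = phi (b10 x v) m := phi12_four _ _ _
  have hφ1 : φ 1 = e := by simp [hφ, hb, phi]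
  have hφ2 : φ 2 = p e := by simp [hφ, hb, phi]
  have hφ3 : φ 3 = p e + e := by simp [hφ, hb, phi]; abel
  obtain ⟨cx, cp, cy⟩ := cols_eq
  have hmul : ∀ L : List ℕ, (L.map (4 * ·)).map φ = L.map (phi (b10 x v)) := fun L => by
    rw [List.map_map]
    exact List.map_congr_left fun m _ => hfour m
  have hX : ∀ n, x (φ n) = φ (app xC n) := by
    refine apply_phi R.two x ?_
    rw [cx, List.map_append, hmul, ← R.x_b10 hv]
    simp only [hb, List.map_cons, List.map_nil, List.cons_append, List.nil_append]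
    rw [← hb, ← hφ, hφ1, hφ2, hxe, hxpe]
  have hY : ∀ n, y (φ n) = φ (app yC n) := by
    refine apply_phi R.two y ?_
    rw [cy, List.map_append, hmul]
    have hlist : (b10 x v).map y = (frobCols 1).map (phi (b10 x v)) := by
      simp only [b10, frobCols, List.map_map]
      refine List.map_congr_left fun i hi => ?_
      show y (x^[i] v) = phi (b10 x v) ((app x10)^[3 * i % 11] 1)
      rw [← iterate_phi x (app x10) (phi (b10 x v)) (R.x_phi10 hv), phi10_one]
      conv_rhs => rw [← hy]
      have hit : ∀ i (a : W), y (x^[i] a) = x^[3 * i] (y a) := by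
        intro i
        induction i with
        | zero => intro a; rfl
        | succ i ih =>
          intro a
          rw [Function.iterate_succ_apply', R.yx, ih, ← Function.iterate_add_apply]
          ring_nf
      rw [hit]
      conv_lhs => rw [← Nat.mod_add_div (3 * i) 11, Function.iterate_add_apply, Function.iterate_mul,
        Function.iterate_fixed (R.x11 (y v))]
    rw [← hlist]
    simp only [hb, List.map_cons, List.map_nil, List.cons_append, List.nil_append]
    rw [← hb, ← hφ, hφ1, hφ2, hye, ← R.py, hye]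
  have hP : ∀ n, p (φ n) = φ (app pC n) := by
    refine apply_phi R.two p ?_
    rw [cp, List.map_append, hmul]
    have hlist : (b10 x v).map p = (mulCols h0).map (phi (b10 x v)) := by
      simp only [b10, mulCols, List.map_map]
      refine List.map_congr_left fun i _ => ?_
      show p (x^[i] v) = phi (b10 x v) ((app x10)^[i] h0)
      rw [← iterate_phi x (app x10) (phi (b10 x v)) (R.x_phi10 hv), ← hp]
      exact (Function.Commute.iterate_right (fun a => R.px a) i) v
    rw [← hlist]
    simp only [hb, List.map_cons, List.map_nil, List.cons_append, List.nil_append]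
    rw [← hb, ← hφ, hφ2, hφ3, hppe]
  have hsurj : ∀ w, ∃ n < 4096, φ n = w := by
    intro w
    have h1 : tr x (w + tr x w) = 0 := by
      rw [map_add, R.tr_of_fix (R.x_tr w), R.two]
    obtain ⟨m, hm, hm'⟩ := hsurj10 _ h1
    obtain ⟨d, hd, hd'⟩ : ∃ d < 4, φ d = tr x w := by
      rcases R.eq_of_fix he hxe (R.x_tr w) with h | h | h | h
      · exact ⟨0, by norm_num, by rw [h, hφ, phi_zero]⟩
      · exact ⟨1, by norm_num, by rw [h, hφ1]⟩
      · exact ⟨2, by norm_num, by rw [h, hφ2]⟩
      · exact ⟨3, by norm_num, by rw [h, hφ3]⟩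
    refine ⟨d ^^^ 4 * m, Nat.xor_lt_two_pow (n := 12) (by omega) (by omega), ?_⟩
    rw [hφ, phi_xor R.two, ← hφ, hd', hfour, hm', add_comm w, ← add_assoc, R.two, zero_add]
  have hinj : ∀ m < 4096, ∀ n < 4096, φ m = φ n → m = n := by
    haveI := finite_of_card (n := 4096) R.card
    let g : Fin 4096 → W := fun n => φ n
    have hg : Function.Bijective g :=
      (Nat.bijective_iff_surjective_and_card g).2 ⟨fun w => by
        obtain ⟨n, hn, e⟩ := hsurj w
        exact ⟨⟨n, hn⟩, e⟩, by rw [Nat.card_fin, R.card]⟩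
    intro m hm n hn h
    exact congrArg Fin.val (@hg.1 ⟨m, hm⟩ ⟨n, hn⟩ h)
  -- the image of the element of order four
  have hxor : ∀ m n, φ (m ^^^ n) = φ m + φ n := phi_xor R.two b
  have hclt : ∀ C ∈ [pC, p2C, xC, yC, fC, dC, d2C], ∀ n < 4096, app C n < 4096 :=
    fun C hC n hn => col_lt n hn C hC
  have hfixf : ∀ w, y w = w → y (f w) = f w := by
    intro w hw
    have h2 : y^[2] (f w) = f w := by rw [← R.fy, hw]
    have h6 : y^[2 * 3] (f w) = f w := by
      rw [Function.iterate_mul]; exact Function.iterate_fixed h2 3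
    rwa [show 2 * 3 = 1 + 5 from rfl, Function.iterate_add_apply, R.y5, Function.iterate_one] at h6
  have hmemfix : ∀ w, y w = w → ∃ n ∈ fixL, φ n = w := by
    intro w hw
    obtain ⟨n, hn, rfl⟩ := hsurj w
    exact ⟨n, fix_spec n hn (hinj _ (hclt _ (by simp) n hn) n hn (by rw [← hY, hw])), rfl⟩
  obtain ⟨i, hi, hi'⟩ := hmemfix _ (hfixf _ hye)
  obtain ⟨j, hj, hj'⟩ : ∃ n ∈ fixL, φ n = f (φ 4) := by
    refine hmemfix _ (hfixf _ ?_)
    rw [show φ 4 = v by rw [show (4 : ℕ) = 4 * 1 from rfl, hfour, phi10_one], hy]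
  obtain ⟨haeq, hbeq, haV, hbV⟩ := a_eq
  have hP2 : ∀ n, p (p (φ n)) = φ (app p2C n) := fun n => by
    rw [hφ, comp_cols R.two hP hP, p_cols.1]
  have hk : ∃ k ∈ bL, φ k = f (φ aV) := by
    obtain ⟨k, hk, hk'⟩ := hsurj (f (φ aV))
    refine ⟨k, a_spec k hk (hinj _ ?_ 0 (by norm_num) ?_), hk'⟩
    · refine Nat.xor_lt_two_pow (n := 12) (Nat.xor_lt_two_pow (n := 12) ?_ ?_) hk
      · exact hclt _ (by simp) _ (hclt _ (by simp) _ (hclt _ (by simp) _ (hclt _ (by simp) _ hk)))
      · exact hclt _ (by simp) _ (hclt _ (by simp) _ (hclt _ (by simp) _ hk))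
    · rw [hxor, hxor, ← hY, ← hY, ← hY, ← hY, ← hP, ← hY, ← hY, hk', hφ, phi_zero, ← hφ]
      have h := congrArg (fun n => f (φ n)) haeq
      simp only [hxor, ← hY, ← hP, map_add] at h
      rw [hφ, phi_zero, map_zero, ← hφ] at h
      simp only [R.fy, ← R.pf, Function.iterate_succ_apply', Function.iterate_zero_apply] at h
      exact h
  have hl : ∃ l ∈ aL, φ l = f (φ bV) := by
    obtain ⟨l, hl, hl'⟩ := hsurj (f (φ bV))
    refine ⟨l, b_spec l hl (hinj _ ?_ 0 (by norm_num) ?_), hl'⟩
    · refine Nat.xor_lt_two_pow (n := 12) (Nat.xor_lt_two_pow (n := 12) ?_ ?_) hl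
      · exact hclt _ (by simp) _ (hclt _ (by simp) _ (hclt _ (by simp) _ (hclt _ (by simp) _ hl)))
      · exact hclt _ (by simp) _ (hclt _ (by simp) _ (hclt _ (by simp) _ hl))
    · rw [hxor, hxor, ← hY, ← hY, ← hY, ← hY, ← hP2, ← hY, ← hY, hl', hφ, phi_zero, ← hφ]
      have h := congrArg (fun n => f (φ n)) hbeq
      simp only [hxor, ← hY, ← hP2, map_add] at h
      rw [hφ, phi_zero, map_zero, ← hφ] at h
      simp only [R.fy, ← R.pf, Function.iterate_succ_apply', Function.iterate_zero_apply] at h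
      exact h
  obtain ⟨k, hk, hk'⟩ := hk
  obtain ⟨l, hl, hl'⟩ := hl
  have hlist : (gbL.map φ).map f = (imFix i j ++ imBlk k l).map φ := by
    simp only [gbL, imFix, imBlk, List.map_cons, List.map_nil, List.cons_append, List.nil_append,
      ← hP, ← hY, ← R.pf, R.fy, Function.iterate_succ_apply', Function.iterate_zero_apply, hk', hl',
      hj', hi', hφ1]
  have hF : ∀ n < 4096, f (φ n) = φ (cand i j k l n) := by
    intro n hn
    conv_lhs => rw [← gb_spec n hn]
    rw [hφ, phi_app R.two, map_phi, ← hφ, hlist, hφ, ← phi_app R.two, app_append]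
    rfl
  have hlow : ∀ n ∈ fixL, n < 4096 ∧ f (φ n) = φ (candFix i j n) ∧ candFix i j n ∈ fixL := by
    intro n hn
    obtain ⟨h16, hlt⟩ := fix_low n hn
    have e : cand i j k l n = candFix i j n := by
      rw [cand, candBlk, Nat.div_eq_of_lt h16, app_zero, Nat.xor_zero]
    have hfn := hF n hlt
    rw [e] at hfn
    refine ⟨hlt, hfn, ?_⟩
    have hyn : y (φ n) = φ n := by
      rw [hY]
      congr 1
      have hd : ∀ m ∈ fixL, app yC m = m := by decide +kernel
      exact hd n hn
    obtain ⟨m, hm, hm'⟩ := hmemfix _ (hfixf _ hyn)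
    have hcl : candFix i j n < 4096 := by
      refine app_lt (k := 12) ?_ _
      intro c hc
      simp only [imFix, List.mem_cons, List.not_mem_nil, or_false] at hc
      rcases hc with rfl | rfl | rfl | rfl
      · exact (fix_low _ hi).2
      · exact hclt _ (by simp) _ (fix_low _ hi).2
      · exact (fix_low _ hj).2
      · exact hclt _ (by simp) _ (fix_low _ hj).2
    exact (hinj m (fix_low m hm).2 _ hcl (hm'.trans hfn)) ▸ hm
  have hit1 : ∀ r, ∀ n ∈ fixL, f^[r] (φ n) = φ ((candFix i j)^[r] n) ∧ (candFix i j)^[r] n ∈ fixL := by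
    intro r
    induction r with
    | zero => exact fun n hn => ⟨rfl, hn⟩
    | succ r ih =>
      intro n hn
      rw [Function.iterate_succ_apply', Function.iterate_succ_apply', (ih n hn).1]
      exact ⟨(hlow _ (ih n hn).2).2.1, (hlow _ (ih n hn).2).2.2⟩
  have hblk : ∀ n ∈ aL ++ bL, f (φ n) = φ (candBlk k l n) := by
    intro n hn
    obtain ⟨h16, hlt⟩ := a_low n hn
    have h1 : app invC n % 2 = 0 := by omega
    have h2 : app invC n / 2 % 2 = 0 := by omega
    have h3 : app invC n / 2 / 2 % 2 = 0 := by omega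
    have h4 : app invC n / 2 / 2 / 2 % 2 = 0 := by omega
    have e : cand i j k l n = candBlk k l n := by
      rw [cand, candFix, imFix]
      simp [app, h1, h2, h3, h4]
    rw [← e]
    exact hF n hlt
  have hit2 : ∀ r, ∀ n ∈ aL ++ bL,
      f^[r] (φ n) = φ ((candBlk k l)^[r] n) ∧ (candBlk k l)^[r] n ∈ aL ++ bL := by
    intro r
    induction r with
    | zero => exact fun n hn => ⟨rfl, hn⟩
    | succ r ih =>
      intro n hn
      rw [Function.iterate_succ_apply', Function.iterate_succ_apply', (ih n hn).1]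
      exact ⟨hblk _ (ih n hn).2, blk_map k hk l hl _ (ih n hn).2⟩
  have c1 : ∀ n ∈ fixL, (candFix i j)^[4] n = n := fun n hn =>
    hinj _ (fix_low _ (hit1 4 n hn).2).2 n (fix_low n hn).2 (by rw [← (hit1 4 n hn).1, R.f4])
  have c2 : ∀ n ∈ aL ++ bL, (candBlk k l)^[4] n = n := fun n hn =>
    hinj _ (a_low _ (hit2 4 n hn).2).2 n (a_low n hn).2 (by rw [← (hit2 4 n hn).1, R.f4])
  have hclo : ∀ n, cand i j k l n < 4096 := by
    intro n
    refine Nat.xor_lt_two_pow (n := 12) (app_lt (k := 12) ?_ _) (app_lt (k := 12) ?_ _)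
    · intro c hc
      simp only [imFix, List.mem_cons, List.not_mem_nil, or_false] at hc
      rcases hc with rfl | rfl | rfl | rfl
      · exact (fix_low _ hi).2
      · exact hclt _ (by simp) _ (fix_low _ hi).2
      · exact (fix_low _ hj).2
      · exact hclt _ (by simp) _ (fix_low _ hj).2
    · have hk2 : k < 4096 := (a_low k (List.mem_append_right _ hk)).2
      have hl2 : l < 4096 := (a_low l (List.mem_append_left _ hl)).2
      intro c hc
      simp only [imBlk, List.mem_cons, List.not_mem_nil, or_false] at hc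
      rcases hc with rfl | rfl | rfl | rfl | rfl | rfl | rfl | rfl <;>
        first
          | assumption
          | exact hclt _ (by simp) _ (by assumption)
          | exact hclt _ (by simp) _ (hclt _ (by simp) _ (by assumption))
          | exact hclt _ (by simp) _ (hclt _ (by simp) _ (hclt _ (by simp) _ (by assumption)))
  have hit3 : ∀ r, (x ∘ f)^[r] (φ 4) = φ ((fun n => app xC (cand i j k l n))^[r] 4) ∧
      (fun n => app xC (cand i j k l n))^[r] 4 < 4096 := by
    intro r
    induction r with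
    | zero => exact ⟨rfl, by norm_num⟩
    | succ r ih =>
      rw [Function.iterate_succ_apply', Function.iterate_succ_apply', ih.1, Function.comp_apply,
        hF _ ih.2, hX]
      exact ⟨rfl, hclt _ (by simp) _ (hclo _)⟩
  have hw := R.word (φ 4)
  rw [(hit3 11).1, hP2, hP] at hw
  have hlt4 : (4 : ℕ) < 4096 := by norm_num
  have hw' : (fun n => app xC (cand i j k l n))^[11] 4 = 4 ∨
      (fun n => app xC (cand i j k l n))^[11] 4 = app pC 4 ∨
      (fun n => app xC (cand i j k l n))^[11] 4 = app p2C 4 :=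
    hw.imp (hinj _ (hit3 11).2 _ hlt4) (Or.imp (hinj _ (hit3 11).2 _ (hclt _ (by simp) _ hlt4))
      (hinj _ (hit3 11).2 _ (hclt _ (by simp) _ hlt4)))
  have hmem : (i, j, k, l) ∈ allCand := by
    simp only [allCand, List.mem_flatMap, List.mem_map, List.mem_filter, Prod.mk.injEq,
      Bool.and_eq_true, Bool.or_eq_true, beq_iff_eq]
    exact ⟨(i, j), ⟨i, hi, j, ⟨hj, c1 1 (by decide), c1 4 (by decide)⟩, rfl⟩, (k, l),
      ⟨⟨k, hk, l, ⟨hl, c2 aV (List.mem_append_left _ a_mem.1), c2 bV (List.mem_append_right _ a_mem.2)⟩,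
        rfl⟩, or_assoc.2 hw'⟩, rfl, rfl, rfl, rfl⟩
  have hunit : b = ((List.range 12).map (2 ^ ·)).map φ := by
    rw [show (List.range 12).map (2 ^ ·) = [1, 2] ++ ((List.range 10).map (2 ^ ·)).map (4 * ·) by
      decide +kernel, List.map_append, hmul, List.map_map]
    simp only [List.map_cons, List.map_nil, List.cons_append, List.nil_append, hφ1, hφ2]
    rw [hb, b10]
    congr 2
    refine List.map_congr_left fun s hs => ?_
    show x^[s] v = phi (b10 x v) (2 ^ s)
    rw [← two_pow_spec s (List.mem_range.1 hs),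
      ← iterate_phi x (app x10) (phi (b10 x v)) (R.x_phi10 hv), phi10_one]
  have hFc : ∀ n, f (φ n) = φ (app (candCols (i, j, k, l)) n) := by
    refine apply_phi R.two f ?_
    rw [← hφ]
    conv_lhs => rw [hunit]
    simp only [candCols, List.map_map]
    refine List.map_congr_left fun s hs => ?_
    exact hF _ (Nat.pow_lt_pow_right (by norm_num) (List.mem_range.1 hs) |>.trans_le le_rfl)
  have hchg : ∀ D D' : List ℕ, D.map (app xC) = xC.map (app D) → D.map (app yC) = yC.map (app D) →
      D.map (app pC) = pC.map (app D) → D.map (app (candCols (i, j, k, l))) = fC.map (app D) →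
      (∀ n < 4096, app D n < 4096) → (∀ n < 4096, app D' n < 4096) →
      (∀ n < 4096, app D (app D' n) = n) → (∀ n < 4096, app D' (app D n) = n) →
      ∃ b', IsModel p x y f b' := by
    intro D D' h1 h2 h3 h4 h5 h6 h7 h8
    refine ⟨D.map φ, ?_⟩
    have hd : ∀ n, phi (D.map φ) n = φ (app D n) := fun n => (phi_app R.two b D n).symm
    have hmap : ∀ (g : W →+ W) (C C' : List ℕ), (∀ n, g (φ n) = φ (app C n)) →
        D.map (app C) = C'.map (app D) → ∀ n, g (phi (D.map φ) n) = phi (D.map φ) (app C' n) := by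
      intro g C C' hg hcc
      refine apply_phi R.two g ?_
      rw [show phi (D.map φ) = fun n => φ (app D n) from funext hd, List.map_map]
      rw [show (C'.map fun n => φ (app D n)) = (C'.map (app D)).map φ by rw [List.map_map]; rfl,
        ← hcc, List.map_map]
      exact List.map_congr_left fun n _ => hg n
    refine ⟨fun m hm n hn h => ?_, fun w => ?_, hmap x xC xC hX h1, hmap y yC yC hY h2,
      hmap f _ fC hFc h4, Or.inl (hmap p pC pC hP h3)⟩
    · rw [hd, hd] at h
      rw [← h8 m hm, ← h8 n hn, hinj _ (h5 m hm) _ (h5 n hn) h]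
    · obtain ⟨n, hn, rfl⟩ := hsurj w
      exact ⟨app D' n, h6 n hn, by rw [hd, h7 n hn]⟩
  obtain ⟨-, hdx, hdy, hdp, h2x, h2y, h2p, -, -⟩ := p_cols
  rcases survivors_spec _ (allCand_mem _ hmem) with h | h | h
  · exact ⟨b, hinj, hsurj, hX, hY, fun n => by rw [hFc, h], Or.inl hP⟩
  · exact hchg dC d2C hdx hdy hdp h (hclt _ (by simp)) (hclt _ (by simp))
      (fun n hn => (scalar_fix n hn).1) fun n hn => (scalar_fix n hn).2
  · exact hchg d2C dC h2x h2y h2p h (hclt _ (by simp)) (hclt _ (by simp))
      (fun n hn => (scalar_fix n hn).2) fun n hn => (scalar_fix n hn).1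

/-- The module is determined up to isomorphism and the choice of the scalar. -/
theorem exists_model : ∃ b, IsModel p x y f b := by
  obtain ⟨v, hv0, hv, hy⟩ := R.exists_v
  obtain ⟨hinj, hsurj⟩ := R.cyclic hv hv0
  obtain ⟨n, hn, hn'⟩ := hsurj (p v) (by rw [R.tr_p, hv, map_zero])
  have hcol : ∀ c ∈ mulCols n, c < 2 ^ 10 := by
    intro c hc
    simp only [mulCols, List.mem_map] at hc
    obtain ⟨i, -, rfl⟩ := hc
    induction i with
    | zero => exact hn
    | succ i ih => rw [Function.iterate_succ_apply']; exact app10_lt _ ih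
  have hz : phi (b10 x v) (app (mulCols n) n ^^^ n ^^^ 1) = 0 := by
    rw [phi_xor R.two, phi_xor R.two, ← R.p_phi10 n hv hn'.symm, hn', phi10_one]
    exact R.scalar v
  have h := h0_spec n hn (hinj _ (Nat.xor_lt_two_pow (n := 10)
    (Nat.xor_lt_two_pow (n := 10) (app_lt hcol n) hn) (by norm_num)) hz)
  rcases h with rfl | rfl
  · exact R.core hv0 hv hy hn'.symm
  · have hp2 : (p.comp p) v = phi (b10 x v) h0 := by
      show p (p v) = _
      rw [(R.p_ne hv0).2.2, ← hn', phi_xor R.two, phi10_one, add_assoc, R.two, add_zero]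
    obtain ⟨b, hb⟩ := R.swap.core hv0 hv hy hp2
    refine ⟨b, hb.inj, hb.surj, hb.hx, hb.hy, hb.hf, ?_⟩
    have hpp : ∀ w, (p.comp p) ((p.comp p) w) = p w := fun w => by
      show p (p (p (p w))) = p w
      rw [R.p3]
    obtain ⟨hc, -⟩ := p_cols
    rcases hb.hp with h | h
    · right
      intro n
      rw [← hpp, comp_cols R.two h h, hc]
    · left
      intro n
      rw [← hpp, comp_cols R.two h h, p2_cols]

end Rep

end Cfsg.Agent.J4Module
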