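/-!
All elementary subgroups of rank at least three of the Sylow subgroup, by generators.
-/

namespace Cfsg.Agent.J4Module.Data

/-- All elementary subgroups of rank 3, by generators. -/
def allLevel3 : List (List Nat) :=
  [[0, 1, 6],
    [0, 1, 36],
    [0, 1, 47],
    [0, 6, 11],
    [0, 6, 36],
    [0, 6, 47],
    [0, 6, 61],
    [0, 11, 47],
    [0, 11, 53],
    [0, 17, 23],
    [0, 17, 36],
    [0, 17, 47],
    [0, 19, 47],
    [0, 19, 53],
    [0, 23, 36],
    [0, 23, 41],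
    [0, 27, 36],
    [0, 27, 41],
    [0, 27, 53],
    [1, 4, 6],
    [1, 4, 34],
    [1, 4, 35],
    [1, 6, 34],
    [1, 6, 36],
    [1, 6, 37],
    [1, 7, 36],
    [1, 7, 37],
    [1, 8, 34],
    [1, 8, 35],
    [2, 5, 7],
    [2, 5, 9],
    [2, 5, 13],
    [2, 5, 14],
    [2, 5, 21],
    [2, 5, 22],
    [2, 5, 33],
    [2, 6, 36],
    [2, 6, 37],
    [2, 7, 9],
    [2, 7, 10],
    [2, 7, 13],
    [2, 7, 14],
    [2, 7, 16],
    [2, 7, 36],
    [2, 7, 37],
    [2, 9, 13],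
    [2, 9, 14],
    [2, 9, 16],
    [2, 9, 21],
    [2, 9, 22],
    [2, 10, 13],
    [2, 10, 14],
    [2, 10, 16],
    [2, 10, 25],
    [2, 10, 26],
    [2, 13, 14],
    [2, 13, 16],
    [2, 13, 37],
    [2, 14, 25],
    [2, 14, 26],
    [2, 16, 21],
    [2, 16, 22],
    [2, 21, 22],
    [2, 21, 26],
    [2, 22, 25],
    [2, 25, 26],
    [2, 33, 48],
    [3, 5, 7],
    [3, 5, 12],
    [3, 5, 19],
    [3, 7, 12],
    [3, 7, 32],
    [3, 12, 38],
    [3, 19, 32],
    [4, 6, 34],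
    [4, 6, 48],
    [4, 14, 21],
    [4, 14, 34],
    [4, 14, 48],
    [4, 21, 34],
    [4, 21, 41],
    [4, 27, 34],
    [4, 27, 35],
    [4, 27, 41],
    [5, 7, 9],
    [5, 7, 12],
    [5, 7, 13],
    [5, 7, 14],
    [5, 7, 21],
    [5, 7, 26],
    [5, 7, 29],
    [5, 9, 13],
    [5, 9, 14],
    [5, 9, 25],
    [5, 9, 26],
    [5, 9, 37],
    [5, 12, 33],
    [5, 13, 14],
    [5, 13, 22],
    [5, 13, 25],
    [5, 13, 27],
    [5, 14, 21],
    [5, 14, 22],
    [5, 14, 37],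
    [5, 19, 29],
    [5, 21, 22],
    [5, 21, 26],
    [5, 21, 29],
    [5, 22, 25],
    [5, 22, 27],
    [5, 25, 26],
    [5, 25, 27],
    [5, 26, 29],
    [5, 27, 29],
    [5, 33, 40],
    [6, 11, 47],
    [6, 11, 48],
    [6, 12, 47],
    [6, 12, 48],
    [6, 30, 34],
    [6, 30, 37],
    [7, 9, 13],
    [7, 9, 14],
    [7, 9, 15],
    [7, 9, 16],
    [7, 9, 21],
    [7, 10, 11],
    [7, 10, 13],
    [7, 10, 14],
    [7, 10, 15],
    [7, 10, 16],
    [7, 10, 37],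
    [7, 10, 44],
    [7, 11, 16],
    [7, 11, 47],
    [7, 11, 48],
    [7, 12, 47],
    [7, 12, 48],
    [7, 13, 14],
    [7, 13, 15],
    [7, 13, 16],
    [7, 14, 15],
    [7, 14, 26],
    [7, 15, 16],
    [7, 15, 29],
    [7, 16, 37],
    [7, 16, 39],
    [7, 21, 26],
    [7, 21, 29],
    [7, 26, 29],
    [7, 29, 32],
    [7, 39, 44],
    [7, 46, 48],
    [8, 9, 23],
    [8, 9, 35],
    [8, 9, 48],
    [8, 23, 35],
    [8, 23, 40],
    [8, 27, 34],
    [8, 27, 35],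
    [8, 27, 40],
    [9, 13, 14],
    [9, 13, 15],
    [9, 13, 16],
    [9, 13, 22],
    [9, 14, 15],
    [9, 14, 21],
    [9, 14, 22],
    [9, 15, 16],
    [9, 15, 21],
    [9, 15, 22],
    [9, 16, 21],
    [9, 16, 22],
    [9, 21, 22],
    [9, 23, 35],
    [9, 23, 37],
    [9, 25, 26],
    [9, 25, 37],
    [9, 26, 35],
    [9, 26, 37],
    [9, 46, 48],
    [10, 11, 16],
    [10, 11, 25],
    [10, 13, 14],
    [10, 13, 15],
    [10, 13, 16],
    [10, 13, 37],
    [10, 14, 15],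
    [10, 14, 25],
    [10, 14, 26],
    [10, 15, 16],
    [10, 15, 27],
    [10, 15, 29],
    [10, 16, 20],
    [10, 16, 27],
    [10, 16, 29],
    [10, 20, 25],
    [10, 25, 26],
    [10, 25, 27],
    [10, 26, 29],
    [10, 27, 29],
    [10, 40, 55],
    [11, 16, 22],
    [11, 22, 25],
    [12, 33, 38],
    [13, 14, 15],
    [13, 14, 25],
    [13, 15, 16],
    [13, 15, 27],
    [13, 16, 37],
    [13, 22, 25],
    [13, 22, 27],
    [13, 25, 27],
    [13, 46, 52],
    [14, 15, 21],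
    [14, 15, 22],
    [14, 21, 22],
    [14, 21, 34],
    [14, 21, 37],
    [14, 22, 37],
    [14, 24, 34],
    [14, 24, 37],
    [14, 25, 26],
    [14, 48, 52],
    [15, 16, 27],
    [15, 16, 29],
    [15, 21, 22],
    [15, 21, 33],
    [15, 22, 33],
    [15, 27, 29],
    [15, 49, 53],
    [16, 20, 22],
    [16, 21, 22],
    [16, 21, 29],
    [16, 22, 27],
    [16, 27, 29],
    [16, 43, 49],
    [17, 21, 34],
    [17, 21, 37],
    [17, 23, 36],
    [17, 23, 37],
    [17, 24, 34],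
    [17, 24, 36],
    [17, 24, 37],
    [18, 23, 35],
    [18, 23, 36],
    [18, 23, 37],
    [18, 24, 36],
    [18, 24, 37],
    [18, 26, 35],
    [18, 26, 37],
    [19, 29, 32],
    [20, 22, 25],
    [21, 26, 29],
    [21, 33, 43],
    [22, 25, 27],
    [22, 33, 43],
    [25, 33, 40],
    [26, 33, 40],
    [27, 40, 43],
    [29, 40, 43]]

/-- All elementary subgroups of rank 4, by generators. -/
def allLevel4 : List (List Nat) :=
  [[0, 1, 6, 36],
    [0, 6, 11, 47],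
    [0, 17, 23, 36],
    [1, 4, 6, 34],
    [2, 5, 7, 9],
    [2, 5, 7, 13],
    [2, 5, 7, 14],
    [2, 5, 9, 13],
    [2, 5, 9, 14],
    [2, 5, 13, 14],
    [2, 5, 21, 22],
    [2, 7, 9, 13],
    [2, 7, 9, 14],
    [2, 7, 10, 13],
    [2, 7, 10, 16],
    [2, 9, 13, 14],
    [2, 9, 16, 21],
    [2, 10, 13, 16],
    [2, 10, 14, 25],
    [3, 5, 7, 12],
    [4, 14, 21, 34],
    [5, 7, 9, 13],
    [5, 7, 9, 14],
    [5, 7, 13, 14],
    [5, 7, 21, 26],
    [5, 9, 13, 14],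
    [5, 9, 25, 26],
    [5, 13, 22, 25],
    [5, 14, 21, 22],
    [7, 9, 13, 14],
    [7, 9, 15, 16],
    [7, 10, 11, 16],
    [7, 10, 13, 15],
    [7, 10, 14, 15],
    [8, 9, 23, 35],
    [9, 13, 15, 16],
    [9, 14, 15, 21],
    [10, 13, 14, 15],
    [10, 15, 16, 27]]

/-- All elementary subgroups of rank 5, by generators. -/
def allLevel5 : List (List Nat) :=
  [[2, 5, 7, 9, 13]]

/-- All elementary subgroups of rank 6, by generators. -/
def allLevel6 : List (List Nat) :=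
  []

end Cfsg.Agent.J4Module.Data
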