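import Cfsg.Agent.Lib.J4Module.SylowChecks
import Cfsg.Agent.Lib.J4Module.RankData

/-!
Decidable facts about all elementary subgroups of the Sylow subgroup.
-/

set_option autoImplicit false

namespace Cfsg.Agent.J4Module

open Data

/-- The extension step without restriction on fixed vectors. -/
def stepAll (L L' : List (List ℕ)) : Bool :=
  L.all fun t =>
    let sp := spanI t
    (List.range 71).all fun a =>
      sp.contains a || t.any (fun g => entry a g == 72) ||
        (let se := spanI (a :: t); L'.any fun t' => t'.all fun g => se.contains g)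

theorem all0 : stepAll level0 level1 = true := by decide +kernel

theorem all1 : stepAll level1 level2 = true := by decide +kernel

theorem all2 : stepAll level2 allLevel3 = true := by decide +kernel

theorem all3 : stepAll allLevel3 allLevel4 = true := by decide +kernel

theorem all4 : stepAll allLevel4 allLevel5 = true := by decide +kernel

theorem all5 : stepAll allLevel5 allLevel6 = true := by decide +kernel

theorem all_length : (∀ t ∈ level0, t.length = 0) ∧ (∀ t ∈ level1, t.length = 1) ∧
    (∀ t ∈ level2, t.length = 2) ∧ (∀ t ∈ allLevel3, t.length = 3) ∧ (∀ t ∈ allLevel4, t.length = 4) ∧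
    (∀ t ∈ allLevel5, t.length = 5) := by
  decide +kernel

theorem all_lt : (∀ t ∈ level0, ∀ g ∈ t, g < 71) ∧ (∀ t ∈ level1, ∀ g ∈ t, g < 71) ∧
    (∀ t ∈ level2, ∀ g ∈ t, g < 71) ∧ (∀ t ∈ allLevel3, ∀ g ∈ t, g < 71) ∧
    (∀ t ∈ allLevel4, ∀ g ∈ t, g < 71) ∧ (∀ t ∈ allLevel5, ∀ g ∈ t, g < 71) := by
  decide +kernel

end Cfsg.Agent.J4Module
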