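import Cfsg.Agent.Lib.J4Module.Bits
import Mathlib.GroupTheory.PGroup
import Mathlib.GroupTheory.Perm.Cycle.Basic
import Mathlib.Algebra.Module.ZMod
import Mathlib.Tactic

/-!
The action of an element of order eleven on a space of order 4096.
-/

set_option autoImplicit false
set_option linter.style.haveILetI false

namespace Cfsg.Agent.J4Module

universe u

variable {W : Type u} [AddCommGroup W]

/-- The hypotheses on four operators of a space of order 4096. -/
structure Rep (p x y f : W →+ W) : Prop where
  card : Nat.card W = 4096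
  two : ∀ w : W, w + w = 0
  scalar : ∀ w, p (p w) + p w + w = 0
  px : ∀ w, p (x w) = x (p w)
  py : ∀ w, p (y w) = y (p w)
  pf : ∀ w, p (f w) = f (p w)
  x11 : ∀ w, x^[11] w = w
  xne : ∃ w, x w ≠ w
  y5 : ∀ w, y^[5] w = w
  yx : ∀ w, y (x w) = x^[3] (y w)
  f4 : ∀ w, f^[4] w = w
  fy : ∀ w, f (y w) = y^[2] (f w)
  word : ∀ w, (x ∘ f)^[11] w = w ∨ (x ∘ f)^[11] w = p w ∨ (x ∘ f)^[11] w = p (p w)

theorem finite_of_card {n : ℕ} [NeZero n] (h : Nat.card W = n) : Finite W :=
  Nat.finite_of_card_ne_zero (h ▸ NeZero.ne n)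

/-- A periodic map of prime period is a permutation whose fixed points count modulo the prime. -/
theorem periodic_modEq {α : Type*} [Finite α] {p : ℕ} [hp : Fact p.Prime] (g : α → α)
    (hg : ∀ a, g^[p] a = a) : Nat.card α ≡ Nat.card {a // g a = a} [MOD p] := by
  have h1 : 1 ≤ p := hp.out.one_lt.le
  let e : Equiv.Perm α :=
    { toFun := g
      invFun := g^[p - 1]
      left_inv := fun a => by
        rw [← Function.iterate_succ_apply, Nat.succ_eq_add_one, Nat.sub_add_cancel h1, hg]
      right_inv := fun a => by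
        rw [← Function.iterate_succ_apply' g, Nat.succ_eq_add_one, Nat.sub_add_cancel h1, hg] }
  have hpow : ∀ k : ℕ, ⇑(e ^ k) = g^[k] := fun k => by
    rw [Equiv.Perm.coe_pow]; rfl
  have he : e ^ p = 1 := Equiv.ext fun a => by rw [hpow]; exact hg a
  have hP : IsPGroup p (Subgroup.zpowers e) := by
    rintro ⟨_, k, rfl⟩
    refine ⟨1, Subtype.ext ?_⟩
    simp only [pow_one, SubgroupClass.coe_pow, OneMemClass.coe_one]
    rw [← zpow_natCast, ← zpow_mul, mul_comm, zpow_mul, zpow_natCast, he, one_zpow]
  refine (hP.card_modEq_card_fixedPoints α).trans (Eq.subst ?_ (Nat.ModEq.refl _))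
  refine Nat.card_congr (Equiv.subtypeEquivRight fun a => ?_)
  rw [MulAction.mem_fixedPoints]
  refine ⟨fun h => h ⟨e, Subgroup.mem_zpowers e⟩, fun h => ?_⟩
  rintro ⟨_, k, rfl⟩
  exact Function.IsFixedPt.perm_zpow (show Function.IsFixedPt e a from h) k

/-- The fixed vectors of `x`. -/
def fixX (x : W →+ W) : AddSubgroup W where
  carrier := {w | x w = w}
  zero_mem' := map_zero x
  add_mem' := fun {a b} ha hb => by
    show x (a + b) = a + b
    rw [map_add, show x a = a from ha, show x b = b from hb]
  neg_mem' := fun {a} ha => by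
    show x (-a) = -a
    rw [map_neg, show x a = a from ha]

/-- The trace of `x`. -/
def tr (x : W →+ W) : W →+ W where
  toFun w := ∑ i ∈ Finset.range 11, x^[i] w
  map_zero' := Finset.sum_eq_zero fun i _ => Function.iterate_fixed (map_zero x) i
  map_add' a b := by
    rw [← Finset.sum_add_distrib]
    exact Finset.sum_congr rfl fun i _ => iterate_map_add x i a b

namespace Rep

variable {p x y f : W →+ W} (R : Rep p x y f)
include R

theorem p3 (w : W) : p (p (p w)) = w := by
  have h1 := R.scalar (p w)
  have h2 := R.scalar w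
  have h3 : p (p (p w)) + p (p w) + p w = p (p w) + p w + w := h1.trans h2.symm
  rw [add_assoc, add_comm (p (p w) + p w) w] at h3
  exact add_right_cancel h3

theorem p_ne {w : W} (hw : w ≠ 0) : p w ≠ w ∧ p w ≠ 0 ∧ p (p w) = p w + w := by
  have h2 := R.scalar w
  refine ⟨fun e => hw ?_, fun e => hw ?_, ?_⟩
  · rwa [e, e, R.two, zero_add] at h2
  · rwa [e, map_zero, zero_add, zero_add] at h2
  · calc p (p w) = p (p w) + ((p w + w) + (p w + w)) := by rw [R.two, add_zero]
      _ = (p (p w) + p w + w) + (p w + w) := by abel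
      _ = p w + w := by rw [h2, zero_add]

theorem card_fixX : Nat.card ((fixX x)) = 4 := by
  haveI := finite_of_card (n := 4096) R.card
  haveI : Fact (Nat.Prime 11) := ⟨by norm_num⟩
  have h1 : 4096 ≡ Nat.card (fixX x) [MOD 11] := by
    have := periodic_modEq (fun w => x w) R.x11
    rwa [R.card] at this
  have h2 : Nat.card (fixX x) ∣ 2 ^ 12 := by
    have := AddSubgroup.card_addSubgroup_dvd_card (fixX x)
    rwa [R.card] at this
  have h3 : Nat.card (fixX x) ≠ 4096 := fun e => by
    obtain ⟨w, hw⟩ := R.xne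
    have : (fixX x) = ⊤ := AddSubgroup.eq_top_of_card_eq _ (e.trans R.card.symm)
    exact hw (show w ∈ (fixX x) by rw [this]; exact AddSubgroup.mem_top w)
  obtain ⟨d, hd, e⟩ := (Nat.dvd_prime_pow Nat.prime_two).1 h2
  rw [e] at h1 h3 ⊢
  revert h1 h3
  interval_cases d <;> simp [Nat.ModEq]

theorem eq_of_fix {e w : W} (he : e ≠ 0) (hxe : x e = e) (hw : x w = w) :
    w = 0 ∨ w = e ∨ w = p e ∨ w = p e + e := by
  classical
  haveI := finite_of_card (n := 4096) R.card
  have := Fintype.ofFinite (fixX x)
  obtain ⟨h1, h2, h3⟩ := R.p_ne he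
  have hpe : x (p e) = p e := by rw [← R.px, hxe]
  set S : Finset (fixX x) := {0, ⟨e, hxe⟩, ⟨p e, hpe⟩, ⟨p e + e, (fixX x).add_mem hpe hxe⟩}
  have hS : S = Finset.univ := by
    refine Finset.eq_univ_of_card _ ?_
    rw [← Nat.card_eq_fintype_card, R.card_fixX]
    simp only [S]
    rw [Finset.card_insert_of_notMem, Finset.card_insert_of_notMem, Finset.card_insert_of_notMem,
      Finset.card_singleton]
    · simp [Subtype.ext_iff, he]
    · simp [Subtype.ext_iff, Ne.symm h1, h2]
    · simp [Subtype.ext_iff, Ne.symm he, Ne.symm h2, ← h3]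
      intro h
      exact he (by rw [← R.p3 e, ← h, map_zero])
  have := hS ▸ Finset.mem_univ (⟨w, hw⟩ : (fixX x))
  simpa [S, Subtype.ext_iff] using this

theorem exists_fix : ∃ e : W, e ≠ 0 ∧ x e = e := by
  haveI := finite_of_card (n := 4096) R.card
  haveI : Nontrivial (fixX x) := Finite.one_lt_card_iff_nontrivial.1 (by rw [R.card_fixX]; norm_num)
  obtain ⟨⟨e, he⟩, hne⟩ := exists_ne (0 : (fixX x))
  exact ⟨e, fun h => hne (Subtype.ext h), he⟩

theorem y_fix {e : W} (hxe : x e = e) : y e = e := by
  by_cases he : e = 0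
  · rw [he, map_zero]
  have hye : x (y e) = y e := by
    have h3 : x^[3] (y e) = y e := by rw [← R.yx, hxe]
    have h12 : x^[3 * 4] (y e) = y e := by
      rw [Function.iterate_mul]; exact Function.iterate_fixed h3 4
    rwa [show 3 * 4 = 1 + 11 from rfl, Function.iterate_add_apply, R.x11, Function.iterate_one] at h12
  have hpe : y (p e) = p (y e) := (R.py e).symm
  have h5 := R.y5 e
  simp only [Function.iterate_succ_apply', Function.iterate_zero_apply] at h5
  obtain ⟨h1, h2, h3⟩ := R.p_ne he
  rcases R.eq_of_fix he hxe hye with h | h | h | h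
  · simp [h] at h5; exact absurd h5.symm he
  · exact h
  · simp only [h, ← R.py, R.p3] at h5
    exact absurd (h3.symm.trans h5) (by simpa using h2)
  · rw [← h3] at h
    simp only [h, ← R.py, R.p3] at h5
    exact absurd h5 h1

omit R in
theorem tr_eq (w : W) : tr x w = ∑ i ∈ Finset.range 11, x^[i] w := rfl

theorem x_tr (w : W) : x (tr x w) = tr x w := by
  rw [tr_eq, map_sum]
  simp only [← Function.iterate_succ_apply' x]
  rw [Finset.sum_range_succ, show Nat.succ 10 = 11 from rfl, R.x11, Finset.sum_range_succ' _ 10]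
  rfl

theorem tr_x (w : W) : tr x (x w) = tr x w := by
  rw [← R.x_tr w, tr_eq, tr_eq, map_sum]
  refine Finset.sum_congr rfl fun i _ => ?_
  rw [← Function.iterate_succ_apply' x, ← Function.iterate_succ_apply x]

theorem tr_of_fix {w : W} (hw : x w = w) : tr x w = w := by
  rw [tr_eq, Finset.sum_congr rfl fun i _ => Function.iterate_fixed hw i]
  rw [Finset.sum_const, Finset.card_range, show (11 : ℕ) = 2 * 5 + 1 from rfl, add_smul, mul_smul,
    two_nsmul, R.two, zero_add, one_smul]

theorem tr_p (w : W) : tr x (p w) = p (tr x w) := by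
  rw [tr_eq, tr_eq, map_sum]
  exact Finset.sum_congr rfl fun i _ => ((Function.Commute.iterate_left fun a => (R.px a).symm) i w)

theorem tr_y (w : W) : tr x (y w) = y (tr x w) := by
  have hit : ∀ i (a : W), y (x^[i] a) = x^[3 * i] (y a) := by
    intro i
    induction i with
    | zero => intro a; rfl
    | succ i ih =>
      intro a
      rw [Function.iterate_succ_apply', R.yx, ih, ← Function.iterate_add_apply]
      ring_nf
  have hper : ∀ (a i : ℕ) (v : W), x^[a + 11 * i] v = x^[a] v := by
    intro a i v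
    rw [Function.iterate_add_apply, Function.iterate_mul]
    congr 1
    exact Function.iterate_fixed (R.x11 v) i
  rw [tr_eq, tr_eq, map_sum]
  simp only [hit]
  have hmod : ∀ i, x^[3 * i] (y w) = x^[3 * i % 11] (y w) := fun i => by
    conv_lhs => rw [← Nat.mod_add_div (3 * i) 11, hper]
  simp only [hmod, Finset.sum_range_succ, Finset.sum_range_zero]
  norm_num
  abel

end Rep

end Cfsg.Agent.J4Module
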