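import Cfsg.Agent.Lib.J4Module.Checks
import Cfsg.Agent.Lib.J4Module.SylowData

/-!
Decidable facts about the Sylow tables.
-/

set_option autoImplicit false

namespace Cfsg.Agent.J4Module

open Data

/-- Composition of maps given by columns. -/
def compC (A B : List ℕ) : List ℕ := B.map (app A)

/-- The identity columns. -/
def oneC : List ℕ := (List.range 12).map (2 ^ ·)

/-- The involution with the given index; index 71 is the identity. -/
def elemI (i : ℕ) : List ℕ := invol.getD i oneC

/-- An entry of the table of products. -/
def entry (i j : ℕ) : ℕ := (invTab.getD i []).getD j 72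

/-- Products of commuting indices. -/
def mulI (i j : ℕ) : ℕ := if i = 71 then j else if j = 71 then i else entry i j

/-- The indices in the subgroup spanned by some involutions. -/
def spanI : List ℕ → List ℕ
  | [] => [71]
  | g :: gs => spanI gs ++ (spanI gs).map (mulI g)

/-- The bit set of fixed vectors among the prefixes. -/
def fixAux : List ℕ → ℕ → ℕ → ℕ → ℕ
  | [], _, idx, acc => if idx = acc then 1 <<< idx else 0
  | c :: cs, w, idx, acc => fixAux cs (2 * w) idx acc ||| fixAux cs (2 * w) (idx + w) (acc ^^^ c)

/-- The fixed vectors of a map, as a bit set. -/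
def fixMask (C : List ℕ) : ℕ := fixAux C 1 0 0

/-- The first bits. -/
def allBits (N : ℕ) : ℕ := 2 ^ N - 1

/-- Common fixed vectors. -/
def fixSpan (t : List ℕ) : ℕ := t.foldr (fun g m => fixMask (elemI g) &&& m) (allBits 4096)

/-- Clear the lowest bit some number of times. -/
def clearLow : ℕ → ℕ → ℕ
  | 0, m => m
  | k + 1, m => clearLow k (m &&& (m - 1))

/-- The extension step from one level to the next. -/
def stepOK (L L' : List (List ℕ)) : Bool :=
  L.all fun t =>
    let sp := spanI t
    let f := fixSpan t
    (List.range 71).all fun a =>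
      sp.contains a || t.any (fun g => entry a g == 72) ||
        clearLow 15 (fixMask (elemI a) &&& f) == 0 ||
          (let se := spanI (a :: t); L'.any fun t' => t'.all fun g => se.contains g)

theorem invol_complete : ∀ g ∈ sylow, compC g g = oneC → g = oneC ∨ g ∈ invol := by decide +kernel

theorem invol_nodup : (invol ++ [oneC]).Nodup := by decide +kernel

theorem invol_length : invol.length = 71 ∧ (∀ g ∈ invol, g.length = 12) := by decide +kernel

theorem tab_spec : ∀ i < 71, ∀ j < 71,
    (i = j → entry i j = 71) ∧
    ((entry i j = 72 ∧ compC (elemI i) (elemI j) ≠ compC (elemI j) (elemI i)) ∨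
      (entry i j ≤ 71 ∧ compC (elemI i) (elemI j) = elemI (entry i j))) := by decide +kernel

theorem step0 : stepOK level0 level1 = true := by decide +kernel

theorem step1 : stepOK level1 level2 = true := by decide +kernel

theorem step2 : stepOK level2 level3 = true := by decide +kernel

theorem step3 : stepOK level3 level4 = true := by decide +kernel

theorem step4 : stepOK level4 level5 = true := by decide +kernel

theorem levels_small : level0 = [[]] ∧ level5 = [] ∧
    (∀ t ∈ level4, ∀ i, i ∈ spanI t ↔ i ∈ 71 :: bigIdx) ∧
      fixSpan bigIdx = bigFix := by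
  refine ⟨by decide +kernel, by decide +kernel, ?_, by decide +kernel⟩
  have h : ∀ t ∈ level4, (∀ i ∈ spanI t, i ∈ 71 :: bigIdx) ∧ (∀ i ∈ 71 :: bigIdx, i ∈ spanI t) := by
    decide +kernel
  exact fun t ht i => ⟨(h t ht).1 i, (h t ht).2 i⟩

end Cfsg.Agent.J4Module
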